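import Mathlib.RingTheory.AdicCompletion.Completeness
import Mathlib.RingTheory.AdicCompletion.Algebra

/-! Extending ring maps to completions. -/

namespace Groth.Agent.Adic.Base.CompletionMap

variable {C B : Type*} [CommRing C] [CommRing B] {J : Ideal C} (K : Ideal B) [IsAdicComplete K B]

noncomputable def levels (g : C →+* B) (h : J ≤ K.comap g) (n : ℕ) : AdicCompletion J C →+* B ⧸ K ^ n :=
  (Ideal.quotientMap (K ^ n) g ((Ideal.pow_right_mono h n).trans (Ideal.le_comap_pow g n))).comp
    (AdicCompletion.evalₐ J n).toRingHom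

theorem levels_compat (g : C →+* B) (h : J ≤ K.comap g) {m n : ℕ} (hle : m ≤ n) :
    (Ideal.Quotient.factorPow K hle).comp (levels K g h n) = levels K g h m := by
  ext x
  obtain ⟨c, hc⟩ := Submodule.Quotient.mk_surjective _ (x.val n)
  have hm : Submodule.Quotient.mk c = x.val m := by
    rw [← x.property hle, ← hc]; rfl
  simp only [levels, RingHom.comp_apply, AdicCompletion.evalₐ, AlgHom.toRingHom_eq_coe, RingHom.coe_coe,
    AlgHom.coe_comp, Function.comp_apply, AlgHom.ofLinearMap_apply, AdicCompletion.eval_apply, ← hc, ← hm]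
  rfl

/-- The extension of a ring map to the completion. -/
noncomputable def extend (g : C →+* B) (h : J ≤ K.comap g) : AdicCompletion J C →+* B :=
  (AdicCompletion.ofAlgEquiv K).symm.toRingEquiv.toRingHom.comp
    (AdicCompletion.liftRingHom K (levels K g h) (levels_compat K g h))

theorem extend_of (g : C →+* B) (h : J ≤ K.comap g) (c : C) :
    extend K g h (algebraMap C _ c) = g c := by
  rw [IsHausdorff.eq_iff_smodEq (I := K)]
  intro n
  rw [SModEq.sub_mem, smul_eq_mul, Ideal.mul_top, ← Ideal.Quotient.eq]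
  exact (AdicCompletion.mk_ofAlgEquiv_symm K n _).trans (by
    rw [AdicCompletion.evalₐ_liftRingHom]
    simp [levels, AdicCompletion.evalₐ_of, AdicCompletion.algebraMap_apply])

theorem hom_ext (hJ : J.FG) {f f' : AdicCompletion J C →+* B}
    (hle : J ≤ K.comap (f.comp (algebraMap C _))) (h : f.comp (algebraMap C _) = f'.comp (algebraMap C _)) :
    f = f' := by
  ext x
  rw [IsHausdorff.eq_iff_smodEq (I := K)]
  intro n
  rw [SModEq.sub_mem, smul_eq_mul, Ideal.mul_top]
  obtain ⟨c, hc⟩ := Submodule.Quotient.mk_surjective _ (x.val n)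
  have hx : x - algebraMap C _ c ∈ (J ^ n • ⊤ : Submodule C (AdicCompletion J C)) := by
    rw [AdicCompletion.pow_smul_top_eq_ker_eval hJ, LinearMap.mem_ker, map_sub, AdicCompletion.eval_apply,
      AdicCompletion.eval_apply, ← hc, sub_eq_zero]
    rfl
  have key : ∀ φ : AdicCompletion J C →+* B, J ≤ K.comap (φ.comp (algebraMap C _)) →
      φ x - φ (algebraMap C _ c) ∈ K ^ n := by
    intro φ hφ
    rw [← map_sub]
    refine Submodule.smul_induction_on hx (fun r hr y _ => ?_) (fun a b ha hb => by rw [map_add]; exact add_mem ha hb)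
    rw [Algebra.smul_def, map_mul]
    exact Ideal.mul_mem_right _ _ (((Ideal.pow_right_mono hφ n).trans (Ideal.le_comap_pow _ n)) hr)
  have h1 := key f hle
  have h2 := key f' (h ▸ hle)
  have h3 : f (algebraMap C _ c) = f' (algebraMap C _ c) := RingHom.congr_fun h c
  rw [h3] at h1
  simpa using sub_mem h1 h2

end Groth.Agent.Adic.Base.CompletionMap
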