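import Groth.Agent.Adic.Base.Classes
import Groth.Agent.Adic.Base.CompletionMap
import Mathlib.RingTheory.Flat.Basic
import Mathlib.RingTheory.Localization.Away.Basic

/-! Charts of admissible blow-ups. -/

namespace Groth.Agent.Adic.Base.Chart

open MvPolynomial TensorProduct

universe u

variable {R A : Type u} [CommRing R] [CommRing A] [Algebra R A] {I : Ideal R} {ι : Type} [Fintype ι]
  (f : ι → A) (i : ι)

local notation "C₀" => AdicRing.chartAlg f i

/-- The coordinate `f j / f i`. -/
noncomputable def ζ (j : {j : ι // j ≠ i}) : AdicRing.chartAlg f i := Ideal.Quotient.mk _ (X j)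

theorem algebraMap_eq (a : A) : algebraMap A C₀ a = Ideal.Quotient.mk _ (C a) := rfl

theorem rel (j : {j : ι // j ≠ i}) : algebraMap A C₀ (f i) * ζ f i j = algebraMap A C₀ (f j) := by
  rw [algebraMap_eq, algebraMap_eq, ζ, ← map_mul, Ideal.Quotient.eq]
  exact Ideal.subset_span ⟨j, rfl⟩

theorem mem_span_single {a : A} (ha : a ∈ Ideal.span (Set.range f)) :
    algebraMap A C₀ a ∈ Ideal.span {algebraMap A C₀ (f i)} := by
  refine Ideal.mem_comap.mp ((Ideal.span_le (I := (Ideal.span {algebraMap A C₀ (f i)}).comap (algebraMap A C₀))).mpr ?_ ha)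
  rintro _ ⟨j, rfl⟩
  rcases eq_or_ne j i with rfl | h
  · exact Ideal.mem_span_singleton_self _
  · exact Ideal.mem_span_singleton'.mpr ⟨ζ f i ⟨j, h⟩, by rw [mul_comm]; exact rel f i ⟨j, h⟩⟩

theorem exists_pow_mul (x : AdicRing.chartAlg f i) :
    ∃ N a, algebraMap A C₀ (f i) ^ N * x = algebraMap A C₀ a := by
  obtain ⟨p, rfl⟩ := Ideal.Quotient.mk_surjective x
  induction p using MvPolynomial.induction_on with
  | C a => exact ⟨0, a, by rw [pow_zero, one_mul]; rfl⟩
  | add p q hp hq =>
    obtain ⟨N, a, ha⟩ := hp; obtain ⟨M, b, hb⟩ := hq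
    exact ⟨N + M, f i ^ M * a + f i ^ N * b, by
      simp only [map_add, map_mul, map_pow, ← ha, ← hb]; ring⟩
  | mul_X p j hp =>
    obtain ⟨N, a, ha⟩ := hp
    exact ⟨N + 1, a * f j, by
      rw [map_mul, map_mul (algebraMap A C₀), ← ha, ← rel f i j, ζ]; ring⟩

/-- The map to the localization. -/
noncomputable def θ : AdicRing.chartAlg f i →ₐ[A] Localization.Away (f i) :=
  Ideal.Quotient.liftₐ _ (aeval fun j => IsLocalization.Away.invSelf (f i) * algebraMap A _ (f j.1)) fun p hp => by
    refine (Ideal.span_le (I := RingHom.ker (aeval fun j : {j : ι // j ≠ i} =>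
      IsLocalization.Away.invSelf (f i) * algebraMap A (Localization.Away (f i)) (f j.1)))).mpr ?_ hp
    rintro _ ⟨j, rfl⟩
    simp [RingHom.mem_ker, ← mul_assoc, IsLocalization.Away.mul_invSelf]

theorem torsion_of_noPowTorsion (hA : AdicRing.NoPowTorsion I A) (G : Finset R) {n : ℕ}
    (hG : Ideal.span (G : Set R) = I ^ n) (x : AdicRing.chartAlg f i)
    (hx : ∀ g ∈ G, algebraMap R C₀ g * x = 0) :
    ∃ N, algebraMap A C₀ (f i) ^ N * x = 0 := by
  classical
  obtain ⟨N, a, ha⟩ := exists_pow_mul f i x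
  have h : ∀ g : G, ∃ L, f i ^ L * (algebraMap R A g * a) = 0 := fun g => by
    have h1 : θ f i (algebraMap A C₀ (algebraMap R A g * a)) = 0 := by
      rw [map_mul, ← ha, ← IsScalarTower.algebraMap_apply R A C₀, mul_left_comm, hx g g.2, mul_zero, map_zero]
    rw [AlgHom.commutes, IsLocalization.map_eq_zero_iff (Submonoid.powers (f i))] at h1
    obtain ⟨⟨_, L, rfl⟩, hL⟩ := h1
    exact ⟨L, hL⟩
  choose L hL using h
  have h2 : f i ^ Finset.univ.sup L * a = 0 := hA _ n fun b hb => by
    rw [← hG] at hb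
    induction hb using Submodule.span_induction with
    | mem g hg =>
      rw [Algebra.smul_def, mul_left_comm,
        ← Nat.sub_add_cancel (Finset.le_sup (f := L) (Finset.mem_univ ⟨g, hg⟩)), pow_add, mul_assoc, hL ⟨g, hg⟩,
        mul_zero]
    | zero => rw [zero_smul]
    | add u v _ _ hu hv => rw [add_smul, hu, hv, add_zero]
    | smul c u _ hu => rw [smul_eq_mul, mul_smul, hu, smul_zero]
  refine ⟨Finset.univ.sup L + N, ?_⟩
  rw [pow_add, mul_assoc, ha, ← map_pow, ← map_mul, h2, map_zero]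

theorem isPow_torsion (hR : AdicRing.IsBase R I) (hA : AdicRing.Admissible R I A) {k : ℕ}
    (hopen : (I ^ k).map (algebraMap R A) ≤ Ideal.span (Set.range f)) (x : AdicRing.chartCompl I f i) :
    (∃ n : ℕ, ∀ a ∈ I ^ n, a • x = 0) ↔
      ∃ n : ℕ, algebraMap A (AdicRing.chartCompl I f i) (f i) ^ n * x = 0 := by
  classical
  constructor
  · rintro ⟨n, hn⟩
    have hft : AdicRing.TopFiniteType R I A :=
      ⟨hA.1.choose, hA.1.choose_spec.choose, hA.1.choose_spec.choose_spec.1⟩
    have : Module.Flat C₀ (AdicRing.chartCompl I f i) := Tame.flat (Classes.isTame hR hft C₀)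
    obtain ⟨G, hG⟩ := Submodule.FG.pow (Classes.fg_of_isBase hR) n
    let L : C₀ →ₗ[C₀] (G → C₀) :=
      LinearMap.pi fun g : G => LinearMap.mulLeft C₀ (algebraMap R C₀ g)
    have h0 : L.lTensor (AdicRing.chartCompl I f i) (x ⊗ₜ 1) = 0 := by
      apply (TensorProduct.piScalarRight C₀ C₀ (AdicRing.chartCompl I f i) G).injective
      ext g : 1
      rw [map_zero, LinearMap.lTensor_tmul]
      simp only [TensorProduct.piScalarRight_apply, TensorProduct.piScalarRightHom_tmul, L, LinearMap.pi_apply,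
        LinearMap.mulLeft_apply, mul_one, Pi.zero_apply]
      rw [algebraMap_smul]
      exact hn g (hG ▸ Submodule.subset_span g.2)
    obtain ⟨w, hw⟩ := ((Module.Flat.lTensor_exact (AdicRing.chartCompl I f i) (LinearMap.exact_subtype_ker_map L)) _).mp h0
    have key : ∀ w : (AdicRing.chartCompl I f i) ⊗[C₀] LinearMap.ker L, ∃ N, algebraMap A (AdicRing.chartCompl I f i) (f i) ^ N *
        TensorProduct.rid C₀ (AdicRing.chartCompl I f i) ((LinearMap.ker L).subtype.lTensor (AdicRing.chartCompl I f i) w) = 0 := by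
      intro w
      induction w with
      | zero => exact ⟨0, by simp⟩
      | add a b ha hb =>
        obtain ⟨N, ha⟩ := ha; obtain ⟨M, hb⟩ := hb
        exact ⟨N + M, by
          rw [map_add, map_add, mul_add, pow_add, mul_assoc, mul_assoc, hb, mul_left_comm, ha, mul_zero, mul_zero,
            add_zero]⟩
      | tmul y c =>
        obtain ⟨N, hN⟩ := torsion_of_noPowTorsion f i hA.2 G hG c fun g hg => congrFun c.2 ⟨g, hg⟩
        refine ⟨N, ?_⟩
        rw [LinearMap.lTensor_tmul, TensorProduct.rid_tmul, Submodule.subtype_apply, ← algebraMap_smul (AdicRing.chartCompl I f i) (c : AdicRing.chartAlg f i) y, smul_eq_mul, ← mul_assoc,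
          IsScalarTower.algebraMap_apply A C₀ (AdicRing.chartCompl I f i), ← map_pow, ← map_mul, hN, map_zero, zero_mul]
    obtain ⟨N, hN⟩ := key w
    refine ⟨N, ?_⟩
    rwa [hw, TensorProduct.rid_tmul, one_smul] at hN
  · rintro ⟨n, hn⟩
    refine ⟨k * n, fun a ha => ?_⟩
    have h1 : algebraMap A C₀ (algebraMap R A a) ∈ Ideal.span {algebraMap A C₀ (f i) ^ n} := by
      rw [← Ideal.span_singleton_pow]
      rw [pow_mul] at ha
      have h2 : (I ^ k).map ((algebraMap A C₀).comp (algebraMap R A)) ≤ Ideal.span {algebraMap A C₀ (f i)} := by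
        rw [← Ideal.map_map]
        exact Ideal.map_le_iff_le_comap.mpr fun b hb => mem_span_single f i (hopen hb)
      have h3 := Ideal.mem_map_of_mem ((algebraMap A C₀).comp (algebraMap R A)) ha
      rw [Ideal.map_pow] at h3
      exact Ideal.pow_right_mono h2 n h3
    obtain ⟨c, hc⟩ := Ideal.mem_span_singleton'.mp h1
    rw [Algebra.smul_def, IsScalarTower.algebraMap_apply R A (AdicRing.chartCompl I f i), IsScalarTower.algebraMap_apply A C₀ (AdicRing.chartCompl I f i), ← hc,
      map_mul, map_pow, ← IsScalarTower.algebraMap_apply A C₀ (AdicRing.chartCompl I f i), mul_assoc, hn, mul_zero]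

theorem existsUnique_lift (hI : I.FG) {B : Type u} [CommRing B] [Algebra R B]
    [IsAdicComplete (I.map (algebraMap R B)) B] (φ : A →ₐ[R] B) (hnzd : φ (f i) ∈ nonZeroDivisors B)
    (hgen : (Ideal.span (Set.range f)).map φ = Ideal.span {φ (f i)}) :
    ∃! ψ : AdicRing.chartAdm I f i →ₐ[R] B,
      ψ.comp (IsScalarTower.toAlgHom R A (AdicRing.chartAdm I f i)) = φ := by
  set K := I.map (algebraMap R B)
  set J := I.map (algebraMap R C₀)
  set Ĉ := AdicRing.chartCompl I f i
  have hb : ∀ j, ∃ b, b * φ (f i) = φ (f j) := fun j => Ideal.mem_span_singleton'.mp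
    (hgen ▸ Ideal.mem_map_of_mem φ (Ideal.subset_span (Set.mem_range_self j)))
  choose b hb using hb
  let g₀ : MvPolynomial {j : ι // j ≠ i} A →+* B := eval₂Hom φ.toRingHom fun j => b j.1
  let g : C₀ →+* B := Ideal.Quotient.lift _ g₀ fun p hp => by
    refine (Ideal.span_le (I := RingHom.ker g₀)).mpr ?_ hp
    rintro _ ⟨j, rfl⟩
    simp [RingHom.mem_ker, g₀, mul_comm _ (b j.1), hb]
  have hgA : ∀ a, g (algebraMap A C₀ a) = φ a := fun a => by
    simp [g, g₀, algebraMap_eq]
  have hgR : ∀ r, g (algebraMap R C₀ r) = algebraMap R B r := fun r => by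
    rw [IsScalarTower.algebraMap_apply R A C₀, hgA, φ.commutes]
  have hJK : J ≤ K.comap g := Ideal.map_le_iff_le_comap.mpr fun r hr => by
    rw [Ideal.mem_comap, Ideal.mem_comap, hgR]; exact Ideal.mem_map_of_mem _ hr
  let G : Ĉ →+* B := CompletionMap.extend K g hJK
  have hGA : ∀ a, G (algebraMap A Ĉ a) = φ a := fun a => by
    rw [IsScalarTower.algebraMap_apply A C₀ Ĉ, CompletionMap.extend_of, hgA]
  set T : Ideal Ĉ := ⨆ n : ℕ, Submodule.torsionBy Ĉ Ĉ (algebraMap A Ĉ (f i) ^ n)
  have hT : ∀ x ∈ T, G x = 0 := fun x hx =>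
    Submodule.iSup_induction _ (motive := fun x => G x = 0) hx (fun n x hx => by
      rw [Submodule.mem_torsionBy_iff, smul_eq_mul] at hx
      have h := congrArg G hx
      rw [map_mul, map_pow, hGA, map_zero] at h
      exact (pow_mem hnzd n).1 _ h) (map_zero G)
      (fun x y hx hy => by rw [map_add, hx, hy, add_zero])
  let ψ : AdicRing.chartAdm I f i →ₐ[R] B :=
    { Ideal.Quotient.lift T G hT with
      commutes' := fun r => by
        change Ideal.Quotient.lift T G hT (Ideal.Quotient.mk T (algebraMap R Ĉ r)) = _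
        rw [Ideal.Quotient.lift_mk, IsScalarTower.algebraMap_apply R A Ĉ, hGA, φ.commutes] }
  refine ⟨ψ, AlgHom.ext fun a => ?_, fun ψ' hψ' => ?_⟩
  · change Ideal.Quotient.lift T G hT (Ideal.Quotient.mk T (algebraMap A Ĉ a)) = _
    rw [Ideal.Quotient.lift_mk, hGA]
  · apply AlgHom.coe_ringHom_injective
    refine Ideal.Quotient.ringHom_ext ?_
    refine Eq.trans ?_ (Ideal.Quotient.lift_comp_mk T G hT).symm
    have hA' : ∀ a, ψ' (Ideal.Quotient.mk T (algebraMap A Ĉ a)) = φ a := fun a => AlgHom.congr_fun hψ' a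
    have hC : ((ψ' : AdicRing.chartAdm I f i →+* B).comp (Ideal.Quotient.mk T)).comp (algebraMap C₀ Ĉ) = g := by
      refine Ideal.Quotient.ringHom_ext (MvPolynomial.ringHom_ext (fun a => ?_) fun j => ?_)
      · exact (hA' a).trans (hgA a).symm
      · refine (mem_nonZeroDivisors_iff_right.mp hnzd) _ ?_ |> sub_eq_zero.mp
        have h1 := congrArg (((ψ' : AdicRing.chartAdm I f i →+* B).comp (Ideal.Quotient.mk T)).comp (algebraMap C₀ Ĉ))
          (rel f i j)
        have h2 := congrArg g (rel f i j)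
        simp only [map_mul] at h1 h2
        rw [show (((ψ' : AdicRing.chartAdm I f i →+* B).comp (Ideal.Quotient.mk T)).comp (algebraMap C₀ Ĉ))
          (algebraMap A C₀ (f i)) = φ (f i) from hA' _, show (((ψ' : AdicRing.chartAdm I f i →+* B).comp
          (Ideal.Quotient.mk T)).comp (algebraMap C₀ Ĉ)) (algebraMap A C₀ (f j)) = φ (f j) from hA' _] at h1
        rw [hgA, hgA] at h2
        rw [sub_mul]
        simp only [RingHom.comp_apply, ζ] at h1 h2 ⊢
        linear_combination h1 - h2
    refine CompletionMap.hom_ext K (Ideal.FG.map hI _) ?_ ?_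
    · rw [hC]; exact hJK
    · rw [hC]; exact (RingHom.ext fun c => (CompletionMap.extend_of K g hJK c).symm)

end Groth.Agent.Adic.Base.Chart
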