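import Groth.Agent.Adic.Base.Tame
import Groth.Agent.Adic.FiniteModule
import Mathlib.RingTheory.Flat.FaithfullyFlat.Basic
import Mathlib.RingTheory.Flat.Stability

/-! Transfer of tameness and the flatness criterion. -/

namespace Groth.Agent.Adic.Base.Tame

open TensorProduct Submodule

variable {B B' : Type*} [CommRing B] [CommRing B'] [Algebra B B'] {J : Ideal B}

theorem restrictScalars_map_smul {M : Type*} [AddCommGroup M] [Module B M] [Module B' M]
    [IsScalarTower B B' M] (I : Ideal B) (N : Submodule B' M) :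
    ((I.map (algebraMap B B')) • N).restrictScalars B = I • N.restrictScalars B :=
  Ideal.smul_restrictScalars I N ▸ rfl

variable (h : IsTame J)
include h

theorem almost_module {M : Type*} [AddCommGroup M] [Module B M] [Module.Finite B M] (N : Submodule B M) :
    ∃ N₀ ≤ N, N₀.FG ∧ ∃ c, J ^ c • N ≤ N₀ := by
  obtain ⟨s, g, hg⟩ := Module.Finite.exists_fin' B M
  obtain ⟨N₀, hN₀, hfg, c, hc⟩ := h.almost s (N.comap g)
  refine ⟨N₀.map g, map_le_iff_le_comap.mpr hN₀, hfg.map g, c, ?_⟩
  rw [← map_comap_eq_of_surjective hg N, ← map_smul'']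
  exact map_mono hc

theorem of_surjective (hs : Function.Surjective (algebraMap B B')) :
    IsTame (J.map (algebraMap B B')) := by
  have : Module.Finite B B' := Module.Finite.of_surjective (Algebra.linearMap B B') hs
  refine ⟨h.fg.map _, fun s N => ?_, fun s N => ?_⟩
  · obtain ⟨c, hc⟩ := artinRees h (M := Fin s → B') (N.restrictScalars B)
    refine ⟨c, fun m x ⟨hx, hxN⟩ => ?_⟩
    rw [← Ideal.map_pow] at hx ⊢
    have hx' : x ∈ ((J ^ (m + c)).map (algebraMap B B') • (⊤ : Submodule B' (Fin s → B'))).restrictScalars B := hx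
    rw [restrictScalars_map_smul, restrictScalars_top] at hx'
    have h1 := hc m ⟨hx', hxN⟩
    rw [← restrictScalars_map_smul (B' := B')] at h1
    exact h1
  · obtain ⟨N₀, hN₀, hfg, c, hc⟩ := almost_module h (M := Fin s → B') (N.restrictScalars B)
    refine ⟨span B' (N₀ : Set (Fin s → B')), span_le.mpr hN₀, ?_, c, fun x hx => ?_⟩
    · obtain ⟨t, ht, htN⟩ := Submodule.fg_def.mp hfg
      rw [← htN, span_span_of_tower]
      exact Submodule.fg_def.mpr ⟨t, ht, rfl⟩
    · rw [← Ideal.map_pow] at hx
      have hx' : x ∈ ((J ^ c).map (algebraMap B B') • N).restrictScalars B := hx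
      rw [restrictScalars_map_smul] at hx'
      exact subset_span (hc hx')

theorem isAdicComplete [IsAdicComplete J B] (M : Type*) [AddCommGroup M] [Module B M] [Module.Finite B M] :
    IsAdicComplete J M where
  toIsHausdorff := isHausdorff h (IsAdicComplete.le_jacobson_bot J)
  toIsPrecomplete := Groth.Agent.Adic.FiniteModule.isPrecomplete_of_finite

omit h

theorem rTensor_injective_of_flat_quotient {A M : Type*} [CommRing A] [AddCommGroup M] [Module A M]
    (I : Ideal A) [Module.Flat (A ⧸ I) ((A ⧸ I) ⊗[A] M)] {X Y : Type*} [AddCommGroup X] [AddCommGroup Y]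
    [Module A X] [Module A Y] [Module (A ⧸ I) X] [Module (A ⧸ I) Y] [IsScalarTower A (A ⧸ I) X]
    [IsScalarTower A (A ⧸ I) Y] (f : X →ₗ[A ⧸ I] Y) (hf : Function.Injective f) :
    Function.Injective ((f.restrictScalars A).rTensor M) := by
  have h1 := Module.Flat.rTensor_preserves_injective_linearMap (M := (A ⧸ I) ⊗[A] M) f hf
  let eX := TensorProduct.AlgebraTensorModule.cancelBaseChange A (A ⧸ I) (A ⧸ I) X M
  let eY := TensorProduct.AlgebraTensorModule.cancelBaseChange A (A ⧸ I) (A ⧸ I) Y M
  have key : ∀ z, (f.restrictScalars A).rTensor M (eX z) = eY (f.rTensor ((A ⧸ I) ⊗[A] M) z) := by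
    intro z
    induction z with
    | zero => simp
    | add a b ha hb => simp only [map_add, ha, hb]
    | tmul x am =>
      induction am with
      | zero => simp
      | add a b ha hb => simp only [tmul_add, map_add, ha, hb]
      | tmul a m => simp [eX, eY]
  intro u v huv
  obtain ⟨u, rfl⟩ := eX.surjective u
  obtain ⟨v, rfl⟩ := eX.surjective v
  rw [key, key] at huv
  rw [h1 (eY.injective huv)]

theorem flat_of_flat_quotient {A C : Type*} [CommRing A] [CommRing C] [Algebra A C] {a : Ideal A}
    (hA : IsTame a) (hC : IsTame (a.map (algebraMap A C)))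
    (hjac : a.map (algebraMap A C) ≤ Ideal.jacobson ⊥) {M : Type*} [AddCommGroup M]
    [Module A M] [Module C M] [IsScalarTower A C M] [Module.Finite C M]
    (hflat : ∀ n, Module.Flat (A ⧸ a ^ (n + 1)) ((A ⧸ a ^ (n + 1)) ⊗[A] M)) : Module.Flat A M := by
  rw [Module.Flat.iff_lTensor_injective]
  intro I hI
  have : Module.Finite A I := Module.Finite.iff_fg.mpr hI
  have : SMulCommClass C A M := SMulCommClass.symm A C M
  have : Module.Finite C (M ⊗[A] I) := by
    obtain ⟨s, hs⟩ := (Module.Finite.fg_top : (⊤ : Submodule C M).FG)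
    obtain ⟨t, ht⟩ := (Module.Finite.fg_top : (⊤ : Submodule A I).FG)
    classical
    refine ⟨⟨(s ×ˢ t).image fun p => p.1 ⊗ₜ[A] p.2, eq_top_iff.mpr fun z hz => ?_⟩⟩
    clear hz
    induction z with
    | zero => exact zero_mem _
    | add a b ha hb => exact add_mem ha hb
    | tmul m i =>
      induction (show m ∈ span C (s : Set M) from hs ▸ mem_top) using Submodule.span_induction with
      | zero => rw [zero_tmul]; exact zero_mem _
      | add a b _ _ ha hb => rw [add_tmul]; exact add_mem ha hb
      | smul c x _ hx => rw [← smul_tmul']; exact smul_mem _ c hx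
      | mem m hm =>
        induction (show i ∈ span A (t : Set I) from ht ▸ mem_top) using Submodule.span_induction with
        | zero => rw [tmul_zero]; exact zero_mem _
        | add a b _ _ ha hb => rw [tmul_add]; exact add_mem ha hb
        | smul c x _ hx =>
          rw [tmul_smul, ← algebraMap_smul C c (m ⊗ₜ[A] x)]
          exact smul_mem _ _ hx
        | mem i hi =>
          exact subset_span (Finset.mem_coe.mpr (Finset.mem_image.mpr ⟨(m, i), Finset.mem_product.mpr ⟨hm, hi⟩, rfl⟩))
  rw [injective_iff_map_eq_zero]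
  intro z hz
  refine (Tame.isHausdorff hC hjac : IsHausdorff (a.map (algebraMap A C)) (M ⊗[A] I)).haus z fun m => ?_
  rw [SModEq.zero, ← Ideal.map_pow]
  change z ∈ (Ideal.map (algebraMap A C) (a ^ m) • (⊤ : Submodule C (M ⊗[A] I))).restrictScalars A
  rw [restrictScalars_map_smul, restrictScalars_top]
  obtain ⟨c, hc⟩ := artinRees hA (M := A) (I : Submodule A A)
  set k := m + c
  let I' : Submodule A I := Submodule.comap I.subtype (a ^ (k + 1))
  have hker : ∀ r ∈ a ^ (k + 1), ∀ x : I ⧸ I', r • x = 0 := by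
    intro r hr x
    obtain ⟨x, rfl⟩ := Submodule.Quotient.mk_surjective _ x
    rw [← Submodule.Quotient.mk_smul, Submodule.Quotient.mk_eq_zero]
    exact Ideal.mul_mem_right _ _ hr
  let _ : Module (A ⧸ a ^ (k + 1)) (I ⧸ I') := Module.IsTorsionBySet.module (fun x r => hker r r.2 x)
  have : IsScalarTower A (A ⧸ a ^ (k + 1)) (I ⧸ I') :=
    Module.IsTorsionBySet.isScalarTower (fun x r => hker r r.2 x)
  let f₀ : (I ⧸ I') →ₗ[A] A ⧸ a ^ (k + 1) := I'.liftQ ((Submodule.mkQ (a ^ (k + 1))).comp I.subtype) fun x hx => by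
    rw [LinearMap.mem_ker]; exact (Submodule.Quotient.mk_eq_zero _).mpr hx
  let f : (I ⧸ I') →ₗ[A ⧸ a ^ (k + 1)] A ⧸ a ^ (k + 1) :=
    LinearMap.extendScalarsOfSurjective Ideal.Quotient.mk_surjective f₀
  have hf : Function.Injective f := by
    rw [injective_iff_map_eq_zero]
    intro x hx
    obtain ⟨x, rfl⟩ := Submodule.Quotient.mk_surjective _ x
    change Submodule.Quotient.mk (p := a ^ (k + 1)) (x : A) = 0 at hx
    exact (Submodule.Quotient.mk_eq_zero _).mpr ((Submodule.Quotient.mk_eq_zero (a ^ (k + 1))).mp hx : (x : A) ∈ a ^ (k + 1))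
  have h2 := rTensor_injective_of_flat_quotient (M := M) (a ^ (k + 1)) f hf
  have hz0 : (I'.mkQ).lTensor M z = 0 := by
    have h3 : (f.restrictScalars A).lTensor M ((I'.mkQ).lTensor M z) = 0 := by
      rw [← LinearMap.comp_apply, ← LinearMap.lTensor_comp,
        show (f.restrictScalars A) ∘ₗ I'.mkQ = (Submodule.mkQ (a ^ (k + 1))).comp I.subtype from
          LinearMap.ext fun x => rfl, LinearMap.lTensor_comp, LinearMap.comp_apply, hz, map_zero]
    rw [← (TensorProduct.comm A M _).map_eq_zero_iff]
    apply h2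
    rw [map_zero, ← LinearMap.comm_comp_lTensor_comp_comm_eq]
    simp [h3]
  obtain ⟨w, rfl⟩ := (lTensor_exact M (LinearMap.exact_subtype_mkQ I') (Submodule.mkQ_surjective I') z).mp hz0
  clear hz hz0
  induction w with
  | zero => rw [map_zero]; exact zero_mem _
  | add a b ha hb => rw [map_add]; exact add_mem ha hb
  | tmul x y =>
    have hy : (y : I) ∈ a ^ m • (⊤ : Submodule A I) := by
      rw [Submodule.mem_smul_top_iff]
      refine hc m ⟨?_, (y : I).2⟩
      rw [smul_eq_mul, Ideal.mul_top]
      exact Ideal.pow_le_pow_right (show m + c ≤ k + 1 by omega) y.2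
    rw [LinearMap.lTensor_tmul, Submodule.subtype_apply]
    revert hy
    generalize (y : I) = y
    intro hy
    exact Submodule.smul_induction_on hy
      (fun r hr v _ => by rw [tmul_smul]; exact smul_mem_smul hr mem_top)
      (fun u v hu hv => by rw [tmul_add]; exact add_mem hu hv)

end Groth.Agent.Adic.Base.Tame
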