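import Mathlib.RingTheory.AdicCompletion.AsTensorProduct
import Mathlib.RingTheory.AdicCompletion.Completeness
import Mathlib.RingTheory.Flat.Basic
import Mathlib.RingTheory.Finiteness.Ideal
import Mathlib.RingTheory.Nakayama
import Mathlib.RingTheory.Finiteness.Cardinality

/-! Adic completions over rings with an Artin–Rees property, without Noetherian hypotheses. -/

namespace Groth.Agent.Adic.Base.Tame

open TensorProduct Submodule

variable {B : Type*} [CommRing B]

/-- Artin–Rees for submodules of finite free modules, which are finitely generated up to a power. -/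
structure IsTame (J : Ideal B) : Prop where
  fg : J.FG
  ar : ∀ (s : ℕ) (N : Submodule B (Fin s → B)), ∃ c, ∀ m, J ^ (m + c) • ⊤ ⊓ N ≤ J ^ m • N
  almost : ∀ (s : ℕ) (N : Submodule B (Fin s → B)), ∃ N₀ ≤ N, N₀.FG ∧ ∃ c, J ^ c • N ≤ N₀

variable {J : Ideal B} (h : IsTame J) {M : Type*} [AddCommGroup M] [Module B M]

include h

theorem artinRees [Module.Finite B M] (N : Submodule B M) :
    ∃ c, ∀ m, J ^ (m + c) • ⊤ ⊓ N ≤ J ^ m • N := by
  obtain ⟨s, g, hg⟩ := Module.Finite.exists_fin' B M
  obtain ⟨c, hc⟩ := h.ar s (N.comap g)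
  refine ⟨c, fun m x ⟨hx, hxN⟩ => ?_⟩
  rw [← LinearMap.range_eq_top.mpr hg, LinearMap.range_eq_map, ← map_smul''] at hx
  obtain ⟨y, hy, rfl⟩ := hx
  have h2 : g y ∈ (J ^ m • N.comap g).map g := mem_map_of_mem (hc m ⟨hy, hxN⟩)
  rw [map_smul''] at h2
  exact smul_mono_right _ (map_comap_le g N) h2

theorem isHausdorff [Module.Finite B M] (hJ : J ≤ Ideal.jacobson ⊥) : IsHausdorff J M := by
  refine ⟨fun x hx => ?_⟩
  obtain ⟨c, hc⟩ := artinRees h (span B {x})
  have h1 : span B {x} ≤ J • span B {x} := by
    rw [span_singleton_le_iff_mem]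
    simpa using hc 1 ⟨SModEq.zero.mp (hx (1 + c)), mem_span_singleton_self x⟩
  have := eq_bot_of_le_smul_of_le_jacobson_bot J (span B {x}) (fg_span_singleton x) h1 hJ
  simpa using this

/-- Over a tame ring, completion of finite modules is extension of scalars. -/
theorem ofTensorProduct_bijective [Module.Finite B M] :
    Function.Bijective (AdicCompletion.ofTensorProduct J M) := by
  refine ⟨?_, AdicCompletion.ofTensorProduct_surjective_of_finite J M⟩
  rw [injective_iff_map_eq_zero]
  intro z hz
  obtain ⟨s, g, hg⟩ := Module.Finite.exists_fin' B M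
  let N := LinearMap.ker g
  obtain ⟨w, rfl⟩ := LinearMap.lTensor_surjective (AdicCompletion J B) hg z
  set x := AdicCompletion.ofTensorProduct J (Fin s → B) w with hxdef
  have hx : AdicCompletion.map J g x = 0 := by
    rw [← hz]
    exact LinearMap.congr_fun (AdicCompletion.ofTensorProduct_naturality J g) w
  obtain ⟨c, hc⟩ := h.ar s N
  obtain ⟨N₀, hN₀, hfg, c₀, hc₀⟩ := h.almost s N
  have hrep : ∀ m, ∃ f ∈ N, x.val m = mkQ _ f := fun m => by
    obtain ⟨f, hf⟩ := mkQ_surjective _ (x.val m)
    have h0 := congrArg (fun y => y.val m) hx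
    simp only [AdicCompletion.map_val_apply, AdicCompletion.val_zero_apply, ← hf] at h0
    rw [mkQ_apply, LinearMap.reduceModIdeal_apply, Submodule.Quotient.mk_eq_zero,
      ← LinearMap.range_eq_top.mpr hg, LinearMap.range_eq_map, ← map_smul''] at h0
    obtain ⟨y, hy, hgy⟩ := h0
    refine ⟨f - y, by simp [N, hgy], ?_⟩
    rw [← hf, map_sub, mkQ_apply _ y, (Submodule.Quotient.mk_eq_zero _).mpr hy, sub_zero]
  choose f hfN hf using hrep
  have hdiff : ∀ {m k}, m ≤ k → f k - f m ∈ (J ^ m • ⊤ : Submodule B (Fin s → B)) := by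
    intro m k hmk
    rw [← Submodule.Quotient.eq]
    have := x.property hmk
    rw [hf m, hf k] at this
    simpa using this
  have hshift : ∀ {m k}, m + c + c₀ ≤ k → f k - f (m + c + c₀) ∈ J ^ m • N₀ := by
    intro m k hmk
    have h1 : f k - f (m + c + c₀) ∈ J ^ (m + c₀) • N := hc (m + c₀)
      ⟨pow_smul_top_le J _ (by omega : m + c₀ + c ≤ m + c + c₀) (hdiff hmk), sub_mem (hfN k) (hfN _)⟩
    rw [pow_add, mul_smul] at h1
    exact smul_mono_right _ hc₀ h1
  let ν := f (0 + c + c₀)
  have hg0 : ∀ j, f (j + c + c₀) - ν ∈ N₀ := fun j =>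
    smul_le_right (hshift (m := 0) (k := j + c + c₀) (by omega))
  let ξ : AdicCompletion J N₀ := AdicCompletion.mk J N₀ (AdicCompletion.AdicCauchySequence.mk J N₀
    (fun j => ⟨f (j + c + c₀) - ν, hg0 j⟩) fun n => by
      rw [SModEq.sub_mem]
      rw [Submodule.mem_smul_top_iff]
      have h1 : f (n + 1 + c + c₀) - f (n + c + c₀) ∈ J ^ n • N₀ := hshift (by omega)
      convert neg_mem h1 using 1
      simp only [AddSubgroupClass.coe_sub]
      abel)
  have : Module.Finite B N₀ := Module.Finite.iff_fg.mpr hfg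
  obtain ⟨η, hη⟩ := AdicCompletion.ofTensorProduct_surjective_of_finite J N₀ ξ
  have hx2 : x = AdicCompletion.of J _ ν + AdicCompletion.map J N₀.subtype ξ := by
    ext m : 1
    simp only [AdicCompletion.val_add_apply, AdicCompletion.of_apply, AdicCompletion.map_val_apply]
    change x.val m = _ + (N₀.subtype.reduceModIdeal (J ^ m)) (Submodule.Quotient.mk _)
    rw [LinearMap.reduceModIdeal_apply, ← mkQ_apply, ← map_add, hf m]
    change mkQ _ (f m) = mkQ _ (ν + (f (m + c + c₀) - ν))
    rw [add_sub_cancel]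
    exact ((Submodule.Quotient.eq _).mpr (hdiff (show m ≤ m + c + c₀ by omega))).symm
  have hw : w = 1 ⊗ₜ ν + N₀.subtype.lTensor (AdicCompletion J B) η := by
    refine (AdicCompletion.ofTensorProduct_bijective_of_pi_of_fintype J (Fin s)).1 ?_
    rw [← hxdef, hx2, map_add, AdicCompletion.ofTensorProduct_tmul, one_smul]
    congr 1
    rw [← hη]
    exact LinearMap.congr_fun (AdicCompletion.ofTensorProduct_naturality J N₀.subtype) η
  have hgN : g ∘ₗ N₀.subtype = 0 := LinearMap.ext fun y => hN₀ y.2
  rw [hw, map_add, LinearMap.lTensor_tmul, show g ν = 0 from hfN _, tmul_zero, zero_add,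
    ← LinearMap.comp_apply, ← LinearMap.lTensor_comp, hgN, LinearMap.lTensor_zero, LinearMap.zero_apply]

theorem map_injective [Module.Finite B M] (N : Submodule B M) :
    Function.Injective (AdicCompletion.map J N.subtype) := by
  rw [injective_iff_map_eq_zero]
  intro x hx
  obtain ⟨c, hc⟩ := artinRees h N
  ext m
  obtain ⟨y, hy⟩ := mkQ_surjective _ (x.val (m + c))
  have h0 := congrArg (fun z => z.val (m + c)) hx
  simp only [AdicCompletion.map_val_apply, AdicCompletion.val_zero_apply, ← hy] at h0
  rw [mkQ_apply, LinearMap.reduceModIdeal_apply, Submodule.Quotient.mk_eq_zero] at h0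
  rw [AdicCompletion.val_zero_apply, ← x.property (Nat.le_add_right m c), ← hy]
  change Submodule.Quotient.mk y = 0
  rw [Submodule.Quotient.mk_eq_zero]
  have h1 : (y : M) ∈ J ^ m • N := hc m ⟨h0, y.2⟩
  exact (Submodule.mem_smul_top_iff _ _ _).mpr h1

/-- The completion of a tame ring is flat. -/
theorem flat : Module.Flat B (AdicCompletion J B) := by
  rw [Module.Flat.iff_lTensor_injective]
  intro I hI
  have : Module.Finite B I := Module.Finite.iff_fg.mpr hI
  intro a b hab
  refine (ofTensorProduct_bijective h (M := I)).1 (map_injective h (I : Submodule B B) ?_)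
  have key : ∀ z, AdicCompletion.map J (I : Submodule B B).subtype (AdicCompletion.ofTensorProduct J I z) =
      AdicCompletion.ofTensorProduct J B (I.subtype.lTensor (AdicCompletion J B) z) := fun z =>
    LinearMap.congr_fun (AdicCompletion.ofTensorProduct_naturality J (I : Submodule B B).subtype) z
  rw [key, key]
  exact congrArg _ hab

end Groth.Agent.Adic.Base.Tame
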