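import Groth.Agent.Adic.Base.Saturated
import Groth.Agent.Adic.Base.Tame
import Mathlib.Algebra.TrivSqZeroExt.Basic
import Mathlib.RingTheory.AdicCompletion.Completeness
import Mathlib.RingTheory.AdicCompletion.Algebra

/-! Saturated submodules over polynomial rings over restricted power series rings. -/

namespace Groth.Agent.Adic.Base.RestrictedPoly

open MvPolynomial

variable {R : Type*} [CommRing R]

/-- The restricted power series ring, as completion of the polynomial ring. -/
abbrev RP (t : R) (n : ℕ) : Type _ :=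
  AdicCompletion ((Ideal.span {t}).map (C : R →+* MvPolynomial (Fin n) R)) (MvPolynomial (Fin n) R)

theorem map_span_pow (t : R) (n j : ℕ) :
    ((Ideal.span {t}).map (C : R →+* MvPolynomial (Fin n) R)) ^ j = Ideal.span {C t ^ j} := by
  rw [Ideal.map_span, Set.image_singleton, Ideal.span_singleton_pow]

variable (t : R) (n : ℕ)

local notation "P" => RP t n

theorem algebraMap_C (r : R) : algebraMap (MvPolynomial (Fin n) R) P (C r) = algebraMap R P r := by
  rw [IsScalarTower.algebraMap_apply R (MvPolynomial (Fin n) R) P, MvPolynomial.algebraMap_eq]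

/-- Density and completeness. -/
noncomputable def dense : Saturated.Dense t n P where
  ι := IsScalarTower.toAlgHom R (MvPolynomial (Fin n) R) P
  dense := fun x j => by
    obtain ⟨p, hp⟩ := Submodule.mkQ_surjective _ (x.val j)
    refine ⟨p, ?_⟩
    have hI : ((Ideal.span {t}).map (C : R →+* MvPolynomial (Fin n) R)).FG := Ideal.FG.map (Submodule.fg_span_singleton t) C
    have h : x - AdicCompletion.of _ _ p ∈
        LinearMap.ker (AdicCompletion.eval ((Ideal.span {t}).map C) (MvPolynomial (Fin n) R) j) := by
      rw [LinearMap.mem_ker, map_sub, AdicCompletion.eval_of, hp, AdicCompletion.eval_apply, sub_self]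
    rw [← AdicCompletion.pow_smul_top_eq_ker_eval hI] at h
    have h' : x - AdicCompletion.of _ _ p ∈ Ideal.span {(C t : MvPolynomial (Fin n) R) ^ j} • (⊤ : Submodule (MvPolynomial (Fin n) R) P) :=
      map_span_pow t n j ▸ h
    rw [Submodule.ideal_span_singleton_smul, Submodule.mem_smul_pointwise_iff_exists] at h'
    obtain ⟨y, -, hy⟩ := h'
    refine ⟨y, ?_⟩
    change x - algebraMap (MvPolynomial (Fin n) R) P p = algebraMap R P t ^ j * y
    rw [← algebraMap_C, ← map_pow, ← Algebra.smul_def, hy]
    rfl
  complete := by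
    have hI : ((Ideal.span {t}).map (C : R →+* MvPolynomial (Fin n) R)).FG := Ideal.FG.map (Submodule.fg_span_singleton t) C
    have h := AdicCompletion.isAdicComplete (I := (Ideal.span {t}).map C) (M := MvPolynomial (Fin n) R) hI
    have heq : ((Ideal.span {t}).map (C : R →+* MvPolynomial (Fin n) R)).map (algebraMap (MvPolynomial (Fin n) R) P) = Ideal.span {algebraMap R P t} := by
      exact (Ideal.map_map _ _).trans ((Ideal.map_span _ _).trans (by rw [Set.image_singleton, RingHom.comp_apply, algebraMap_C]))
    rw [← heq]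
    exact
      { toIsHausdorff := IsHausdorff.map_algebraMap_iff.mpr h.toIsHausdorff
        toIsPrecomplete := IsPrecomplete.map_algebraMap_iff.mpr h.toIsPrecomplete }

theorem eq_zero_of_mul [IsDomain R] (ht : t ≠ 0) {x : P} (hx : algebraMap R P t * x = 0) : x = 0 := by
  rw [← algebraMap_C, ← Algebra.smul_def] at hx
  ext k : 1
  obtain ⟨p, hp⟩ := Submodule.mkQ_surjective _ (x.val (k + 1))
  have h1 := congrArg (fun y => y.val (k + 1)) hx
  simp only [AdicCompletion.val_smul_apply, ← hp, AdicCompletion.val_zero_apply] at h1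
  rw [Submodule.mkQ_apply, ← Submodule.Quotient.mk_smul, Submodule.Quotient.mk_eq_zero, map_span_pow,
    Submodule.ideal_span_singleton_smul, Submodule.mem_smul_pointwise_iff_exists] at h1
  obtain ⟨u, -, hu⟩ := h1
  rw [smul_eq_mul, smul_eq_mul, pow_succ', mul_assoc] at hu
  have hpu : C t ^ k * u = p := mul_left_cancel₀ (by simpa using ht) hu
  rw [← x.property (Nat.le_succ k), ← hp, AdicCompletion.val_zero_apply]
  change Submodule.Quotient.mk p = 0
  rw [Submodule.Quotient.mk_eq_zero, map_span_pow, Submodule.ideal_span_singleton_smul,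
    Submodule.mem_smul_pointwise_iff_exists]
  exact ⟨u, Submodule.mem_top, by rw [smul_eq_mul, hpu]⟩

variable {t n} [IsDomain R] [ValuationRing R] [Ring.KrullDimLE 1 R]
  (ht : t ≠ 0) (htm : t ∈ IsLocalRing.maximalIdeal R) {m : ℕ}

include ht htm

/-- Saturated ideals of polynomial rings over restricted power series are finitely generated. -/
theorem fg_ideal (N : Ideal (MvPolynomial (Fin m) P))
    (hsat : ∀ x, algebraMap R _ t * x ∈ N → x ∈ N) : N.FG := by
  classical
  let φ : MvPolynomial (Fin (m + 1)) P →ₐ[P] MvPolynomial (Fin m) P := aeval (Fin.cons 1 X)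
  have hmul : ∀ F G, (∀ d, φ (homogeneousComponent d F) ∈ N) → ∀ d, φ (homogeneousComponent d (G * F)) ∈ N := by
    intro F G hF d
    rw [← sum_homogeneousComponent G, Finset.sum_mul, map_sum, map_sum]
    refine sum_mem fun i _ => ?_
    rw [mul_comm, Saturated.component_mul (homogeneousComponent_isHomogeneous i G)]
    split_ifs
    · rw [map_mul]; exact N.mul_mem_right _ (hF _)
    · rw [map_zero]; exact zero_mem _
  let N' : Ideal (MvPolynomial (Fin (m + 1)) P) :=
    { carrier := {F | ∀ d, φ (homogeneousComponent d F) ∈ N}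
      add_mem' := fun {a b} ha hb d => by rw [map_add, map_add]; exact add_mem (ha d) (hb d)
      zero_mem' := fun d => by simp
      smul_mem' := fun G F hF => hmul F G hF }
  have hN' : N'.FG := Saturated.fg_of_homogeneous (dense t n) ht htm N' (fun F hF d e => by
      rw [homogeneousComponent_of_mem ((mem_homogeneousSubmodule _ _).mpr
        (homogeneousComponent_isHomogeneous d F))]
      split_ifs
      · exact hF d
      · rw [map_zero]; exact zero_mem _) (fun F hF d => hsat _ (by
      have h := hF d
      rw [Saturated.component_algebraMap_mul, map_mul] at h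
      rwa [IsScalarTower.algebraMap_apply R P (MvPolynomial (Fin (m + 1)) P), φ.commutes,
        ← IsScalarTower.algebraMap_apply] at h))
  obtain ⟨G, hG⟩ := hN'
  refine ⟨G.image φ, le_antisymm ?_ fun f hf => ?_⟩
  · rw [Ideal.span_le, Finset.coe_image]
    rintro _ ⟨F, hF, rfl⟩
    have hFN : F ∈ N' := hG ▸ Ideal.subset_span hF
    rw [← sum_homogeneousComponent F, map_sum]
    exact sum_mem fun i _ => hFN i
  · let wd : (Fin m →₀ ℕ) → ℕ := fun e => ∑ i, e i
    let mon : (Fin m →₀ ℕ) → MvPolynomial (Fin (m + 1)) P := fun e =>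
      C (f.coeff e) * X 0 ^ (f.support.sup wd - wd e) * ∏ i, X i.succ ^ e i
    let F := ∑ e ∈ f.support, mon e
    have hFd : F.IsHomogeneous (f.support.sup wd) := IsHomogeneous.sum _ _ _ fun e he => by
      have h1 : (∏ i : Fin m, X (R := P) i.succ ^ e i).IsHomogeneous (wd e) :=
        IsHomogeneous.prod _ _ _ fun i _ => by simpa using (isHomogeneous_X P i.succ).pow (e i)
      have h2 := ((isHomogeneous_X P (0 : Fin (m + 1))).pow (f.support.sup wd - wd e)).C_mul (f.coeff e) |>.mul h1
      rwa [one_mul, Nat.sub_add_cancel (Finset.le_sup he)] at h2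
    have hφF : φ F = f := by
      conv_rhs => rw [f.as_sum]
      rw [map_sum]
      refine Finset.sum_congr rfl fun e _ => ?_
      simp only [mon, φ, map_mul, map_pow, map_prod, aeval_X, aeval_C, Fin.cons_zero, Fin.cons_succ, one_pow,
        mul_one, MvPolynomial.algebraMap_eq]
      rw [monomial_eq, Finsupp.prod_fintype _ _ fun i => pow_zero _]
    have hF : F ∈ N' := fun d => by
      rw [homogeneousComponent_of_mem ((mem_homogeneousSubmodule _ _).mpr hFd)]
      split_ifs
      · rw [hφF]; exact hf
      · rw [map_zero]; exact zero_mem _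
    rw [← hG] at hF
    have h := Ideal.mem_map_of_mem φ hF
    rw [Ideal.map_span φ (G : Set (MvPolynomial (Fin (m + 1)) P)), ← Finset.coe_image, hφF] at h
    exact h

/-- Saturated submodules of finite free modules are finitely generated. -/
theorem fg_submodule (s : ℕ) (N : Submodule (MvPolynomial (Fin m) P) (Fin s → MvPolynomial (Fin m) P))
    (hsat : ∀ x, algebraMap R (MvPolynomial (Fin m) P) t • x ∈ N → x ∈ N) : N.FG := by
  classical
  let Φ : MvPolynomial (Fin (m + s)) P →ₐ[P]
      TrivSqZeroExt (MvPolynomial (Fin m) P) (Fin s → MvPolynomial (Fin m) P) :=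
    aeval (Fin.append (fun i => TrivSqZeroExt.inl (X i)) (fun j => TrivSqZeroExt.inr (Pi.single j 1)))
  let L : Ideal (MvPolynomial (Fin (m + s)) P) :=
    { carrier := {F | (Φ F).fst = 0 ∧ (Φ F).snd ∈ N}
      add_mem' := fun {a b} ha hb => by
        simp only [Set.mem_setOf_eq, map_add, TrivSqZeroExt.fst_add, TrivSqZeroExt.snd_add, ha.1, hb.1, add_zero]
        exact ⟨trivial, add_mem ha.2 hb.2⟩
      zero_mem' := by simp
      smul_mem' := fun G F hF => by
        simp only [Set.mem_setOf_eq, smul_eq_mul, map_mul, TrivSqZeroExt.fst_mul, TrivSqZeroExt.snd_mul, hF.1,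
          mul_zero, MulOpposite.op_zero, zero_smul, add_zero]
        exact ⟨trivial, N.smul_mem _ hF.2⟩ }
  have htr : ∀ G, Φ (algebraMap R _ t * G) =
      TrivSqZeroExt.inl (algebraMap R (MvPolynomial (Fin m) P) t) * Φ G := fun G => by
    rw [map_mul, IsScalarTower.algebraMap_apply R P (MvPolynomial (Fin (m + s)) P), Φ.commutes,
      TrivSqZeroExt.algebraMap_eq_inl', ← IsScalarTower.algebraMap_apply]
  obtain ⟨G, hG⟩ := fg_ideal ht htm L (fun F hF => by
    change (Φ (algebraMap R _ t * F)).fst = 0 ∧ (Φ (algebraMap R _ t * F)).snd ∈ N at hF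
    rw [htr, TrivSqZeroExt.fst_mul, TrivSqZeroExt.fst_inl] at hF
    have h0 : (Φ F).fst = 0 := by
      refine MvPolynomial.ext _ _ fun e => ?_
      refine eq_zero_of_mul t n ht ?_
      have := congrArg (fun p => p.coeff e) hF.1
      simp only [IsScalarTower.algebraMap_apply R P (MvPolynomial (Fin m) P), MvPolynomial.algebraMap_eq,
        coeff_C_mul, coeff_zero] at this
      exact this
    refine ⟨h0, hsat _ ?_⟩
    simpa [TrivSqZeroExt.snd_mul] using hF.2)
  refine ⟨G.image fun F => (Φ F).snd, le_antisymm ?_ fun y hy => ?_⟩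
  · rw [Submodule.span_le, Finset.coe_image]
    rintro _ ⟨F, hF, rfl⟩
    exact (hG ▸ Ideal.subset_span hF : F ∈ L).2
  · let lift : MvPolynomial (Fin m) P →ₐ[P] MvPolynomial (Fin (m + s)) P := rename (Fin.castAdd s)
    have hlift : ∀ p, Φ (lift p) = TrivSqZeroExt.inl p := by
      intro p
      have : Φ.comp lift = TrivSqZeroExt.inlAlgHom P (MvPolynomial (Fin m) P) (Fin s → MvPolynomial (Fin m) P) := by
        ext i <;> simp [Φ, lift]
      exact AlgHom.congr_fun this p
    let F := ∑ j, lift (y j) * X (Fin.natAdd m j)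
    have hΦF : Φ F = TrivSqZeroExt.inr y := by
      have hterm : ∀ j, Φ (lift (y j) * X (Fin.natAdd m j)) = TrivSqZeroExt.inr (Pi.single j (y j)) := fun j => by
        rw [map_mul, hlift, aeval_X, Fin.append_right, TrivSqZeroExt.inl_mul_inr, ← Pi.single_smul]
        simp
      simp only [F, map_sum, hterm]
      rw [← TrivSqZeroExt.inr_sum, Finset.univ_sum_single]
    have hF : F ∈ L := by
      refine ⟨?_, ?_⟩ <;> rw [hΦF]
      · exact TrivSqZeroExt.fst_inr _ _
      · rw [TrivSqZeroExt.snd_inr]; exact hy
    rw [← hG] at hF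
    have key : ∀ H ∈ Ideal.span (G : Set (MvPolynomial (Fin (m + s)) P)),
        (Φ H).snd ∈ Submodule.span (MvPolynomial (Fin m) P) (↑(G.image fun F => (Φ F).snd) : Set _) := by
      intro H hH
      induction hH using Submodule.span_induction with
      | mem H hH => exact Submodule.subset_span (Finset.mem_coe.mpr (Finset.mem_image_of_mem _ hH))
      | zero => simp
      | add a b _ _ ha hb => rw [map_add, TrivSqZeroExt.snd_add]; exact add_mem ha hb
      | smul c H hH' ih =>
        have h0 : (Φ H).fst = 0 := (hG ▸ hH' : H ∈ L).1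
        simp only [smul_eq_mul, map_mul, TrivSqZeroExt.snd_mul, h0, MulOpposite.op_zero, zero_smul, add_zero]
        exact Submodule.smul_mem _ _ ih
    simpa [hΦF] using key F hF

end Groth.Agent.Adic.Base.RestrictedPoly
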