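import Groth.Prelude.Def_W4bk4boschfrg79
import Groth.Agent.Adic.Base.Criterion
import Groth.Agent.Adic.Base.RestrictedPoly
import Groth.Agent.Adic.Noetherian
import Mathlib.RingTheory.Filtration
import Mathlib.RingTheory.FiniteType

/-! Base rings of classes (N) and (V): tameness of finite type algebras. -/

namespace Groth.Agent.Adic.Base.Classes

open Submodule

universe u

theorem isTame_of_isNoetherianRing {B : Type*} [CommRing B] [IsNoetherianRing B] (J : Ideal B) :
    Tame.IsTame J where
  fg := IsNoetherian.noetherian J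
  ar := fun s N => by
    obtain ⟨k, hk⟩ := Ideal.exists_pow_inf_eq_pow_smul J N
    refine ⟨k, fun m => ?_⟩
    rw [hk (m + k) (Nat.le_add_left k m), Nat.add_sub_cancel]
    exact smul_mono_right _ inf_le_right
  almost := fun s N => ⟨N, le_rfl, IsNoetherian.noetherian N, 0, by simp⟩

/-- The saturation of a submodule. -/
def saturation {B M : Type*} [CommRing B] [AddCommGroup M] [Module B M] (τ : B) (N : Submodule B M) :
    Submodule B M where
  carrier := {x | ∃ j, τ ^ j • x ∈ N}
  add_mem' := by
    rintro x y ⟨i, hi⟩ ⟨j, hj⟩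
    refine ⟨i + j, ?_⟩
    rw [smul_add]
    refine add_mem ?_ ?_
    · rw [pow_add, mul_comm, mul_smul]; exact N.smul_mem _ hi
    · rw [pow_add, mul_smul]; exact N.smul_mem _ hj
  zero_mem' := ⟨0, by simp⟩
  smul_mem' := by
    rintro c x ⟨i, hi⟩
    exact ⟨i, by rw [smul_comm]; exact N.smul_mem _ hi⟩

theorem exists_pow_smul_saturation {B M : Type*} [CommRing B] [AddCommGroup M] [Module B M] {τ : B}
    {N : Submodule B M} (h : (saturation τ N).FG) : ∃ c, ∀ x ∈ saturation τ N, τ ^ c • x ∈ N := by
  classical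
  obtain ⟨G, hG⟩ := h
  have : ∀ g : G, ∃ j, τ ^ j • (g : M) ∈ N := fun g => (hG ▸ subset_span g.2 : (g : M) ∈ saturation τ N)
  choose j hj using this
  refine ⟨Finset.univ.sup j, fun x hx => ?_⟩
  rw [← hG] at hx
  induction hx using Submodule.span_induction with
  | mem g hg =>
    rw [← Nat.sub_add_cancel (Finset.le_sup (f := j) (Finset.mem_univ ⟨g, hg⟩)), pow_add, mul_smul]
    exact N.smul_mem _ (hj ⟨g, hg⟩)
  | zero => simp
  | add a b _ _ ha hb => rw [smul_add]; exact add_mem ha hb
  | smul c a _ ha => rw [smul_comm]; exact N.smul_mem _ ha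

theorem isTame_of_saturated {B : Type*} [CommRing B] (τ : B)
    (h : ∀ (s : ℕ) (N : Submodule B (Fin s → B)), (∀ x, τ • x ∈ N → x ∈ N) → N.FG) :
    Tame.IsTame (Ideal.span {τ}) := by
  have hfg : ∀ (s : ℕ) (N : Submodule B (Fin s → B)), (saturation τ N).FG := fun s N =>
    h s _ fun x ⟨j, hj⟩ => ⟨j + 1, by rw [pow_succ, mul_smul]; exact hj⟩
  refine ⟨fg_span_singleton τ, fun s N => ?_, fun s N => ?_⟩
  · obtain ⟨c, hc⟩ := exists_pow_smul_saturation (hfg s N)
    refine ⟨c, fun m x ⟨hx, hxN⟩ => ?_⟩
    simp only [SetLike.mem_coe] at hx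
    rw [Ideal.span_singleton_pow, ideal_span_singleton_smul, mem_smul_pointwise_iff_exists] at hx ⊢
    obtain ⟨y, -, rfl⟩ := hx
    exact ⟨τ ^ c • y, hc y ⟨m + c, hxN⟩, by rw [← mul_smul, ← pow_add]⟩
  · obtain ⟨c, hc⟩ := exists_pow_smul_saturation (hfg s N)
    refine ⟨(saturation τ N).map (τ ^ c • LinearMap.id), ?_, (hfg s N).map _, c, ?_⟩
    · rintro _ ⟨x, hx, rfl⟩; exact hc x hx
    · intro x hx
      rw [Ideal.span_singleton_pow, ideal_span_singleton_smul, mem_smul_pointwise_iff_exists] at hx
      obtain ⟨y, hy, rfl⟩ := hx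
      exact ⟨y, ⟨0, by simpa using hy⟩, rfl⟩

variable {R : Type u} [CommRing R] {I : Ideal R}

theorem mem_maximalIdeal [IsDomain R] [ValuationRing R] {t : R} [IsAdicComplete (Ideal.span {t}) R] :
    t ∈ IsLocalRing.maximalIdeal R := by
  rw [IsLocalRing.mem_maximalIdeal]
  intro hu
  have h : IsHausdorff (Ideal.span {t}) R := inferInstance
  rw [Ideal.span_singleton_eq_top.mpr hu] at h
  exact not_subsingleton R h.subsingleton

/-- The two classes. -/
theorem cases_of_isBase (hR : AdicRing.IsBase R I) :
    (IsNoetherianRing R ∧ AdicRing.NoPowTorsion I R) ∨ ∃ (_ : IsDomain R) (_ : ValuationRing R) (_ : Ring.KrullDimLE 1 R) (t : R),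
      t ≠ 0 ∧ t ∈ IsLocalRing.maximalIdeal R ∧ I = Ideal.span {t} := by
  obtain ⟨hc, h | ⟨hd, hp, hk, t, ht, rfl⟩⟩ := hR
  · exact .inl h
  · have : ValuationRing R := {}
    exact .inr ⟨hd, this, hk, t, ht, mem_maximalIdeal, rfl⟩

theorem fg_of_isBase (hR : AdicRing.IsBase R I) : I.FG := by
  rcases cases_of_isBase hR with ⟨h, -⟩ | ⟨_, _, _, t, -, -, rfl⟩
  · exact IsNoetherian.noetherian I
  · exact fg_span_singleton t

theorem map_isAdicComplete {n : ℕ} (hI : I.FG) :
    IsAdicComplete ((I.map (MvPolynomial.C : R →+* MvPolynomial (Fin n) R)).map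
      (algebraMap (MvPolynomial (Fin n) R) (AdicRing.RPow R I n))) (AdicRing.RPow R I n) := by
  have h := AdicCompletion.isAdicComplete (I := I.map (MvPolynomial.C : R →+* MvPolynomial (Fin n) R))
    (M := MvPolynomial (Fin n) R) (Ideal.FG.map hI MvPolynomial.C)
  exact
    { toIsHausdorff := IsHausdorff.map_algebraMap_iff.mpr h.toIsHausdorff
      toIsPrecomplete := IsPrecomplete.map_algebraMap_iff.mpr h.toIsPrecomplete }

theorem map_rPow (n : ℕ) : (I.map (MvPolynomial.C : R →+* MvPolynomial (Fin n) R)).map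
    (algebraMap (MvPolynomial (Fin n) R) (AdicRing.RPow R I n)) = I.map (algebraMap R (AdicRing.RPow R I n)) :=
  (Ideal.map_map _ _).trans (congrArg (fun f => Ideal.map f I) (by
    rw [IsScalarTower.algebraMap_eq R (MvPolynomial (Fin n) R) (AdicRing.RPow R I n), MvPolynomial.algebraMap_eq]))

theorem isNoetherianRing_rPow [IsNoetherianRing R] (n : ℕ) : IsNoetherianRing (AdicRing.RPow R I n) := by
  have hI : I.FG := IsNoetherian.noetherian I
  set J := I.map (MvPolynomial.C : R →+* MvPolynomial (Fin n) R) with hJ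
  have := map_isAdicComplete (n := n) hI
  set K := J.map (algebraMap (MvPolynomial (Fin n) R) (AdicRing.RPow R I n)) with hK
  have : IsNoetherianRing (AdicRing.RPow R I n ⧸ K) := by
    refine isNoetherianRing_of_surjective (MvPolynomial (Fin n) R) _
      ((Ideal.Quotient.mk K).comp (algebraMap _ _)) fun y => ?_
    obtain ⟨x, rfl⟩ := Ideal.Quotient.mk_surjective y
    obtain ⟨p, hp⟩ := mkQ_surjective _ (x.val 1)
    refine ⟨p, Ideal.Quotient.eq.mpr ?_⟩
    have h : algebraMap (MvPolynomial (Fin n) R) (AdicRing.RPow R I n) p - x ∈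
        LinearMap.ker (AdicCompletion.eval J (MvPolynomial (Fin n) R) 1) := by
      rw [LinearMap.mem_ker, map_sub, AdicCompletion.eval_apply _ _ _ x, ← hp, sub_eq_zero]; rfl
    rw [← AdicCompletion.pow_smul_top_eq_ker_eval (Ideal.FG.map hI MvPolynomial.C), pow_one,
      Ideal.smul_top_eq_map] at h
    exact h
  exact Groth.Agent.Adic.Noetherian.isNoetherianRing_of_isAdicComplete (I := K) ((Ideal.FG.map hI _).map _)

theorem isAdicComplete_rPow (hR : AdicRing.IsBase R I) (n : ℕ) :
    IsAdicComplete (I.map (algebraMap R (AdicRing.RPow R I n))) (AdicRing.RPow R I n) :=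
  map_rPow (I := I) n ▸ map_isAdicComplete (fg_of_isBase hR)

theorem isTame_rPow (hR : AdicRing.IsBase R I) (n m : ℕ) :
    Tame.IsTame (I.map (algebraMap R (MvPolynomial (Fin m) (AdicRing.RPow R I n)))) := by
  rcases cases_of_isBase hR with ⟨h, -⟩ | ⟨_, _, _, t, ht, htm, rfl⟩
  · have := isNoetherianRing_rPow (I := I) n
    exact isTame_of_isNoetherianRing _
  · have heq : (Ideal.span {t}).map (algebraMap R (MvPolynomial (Fin m) (AdicRing.RPow R (Ideal.span {t}) n))) =
        Ideal.span {algebraMap R _ t} :=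
      (Ideal.map_span _ _).trans (by rw [Set.image_singleton])
    exact heq ▸ isTame_of_saturated _ fun s N h => RestrictedPoly.fg_submodule ht htm s N h

/-- Finite type algebras over algebras topologically of finite type are tame. -/
theorem isTame (hR : AdicRing.IsBase R I) {A : Type u} [CommRing A] [Algebra R A]
    (hA : AdicRing.TopFiniteType R I A) (C : Type u) [CommRing C] [Algebra R C] [Algebra A C]
    [IsScalarTower R A C] [Algebra.FiniteType A C] : Tame.IsTame (I.map (algebraMap R C)) := by
  obtain ⟨n, φ, hφ⟩ := hA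
  obtain ⟨m, g, hg⟩ := Algebra.FiniteType.iff_quotient_mvPolynomial''.mp (inferInstance : Algebra.FiniteType A C)
  let _ : Algebra (MvPolynomial (Fin m) (AdicRing.RPow R I n)) C :=
    (g.toRingHom.comp (MvPolynomial.map φ.toRingHom)).toAlgebra
  have hs : Function.Surjective (algebraMap (MvPolynomial (Fin m) (AdicRing.RPow R I n)) C) :=
    hg.comp (MvPolynomial.map_surjective _ hφ)
  have h := Tame.of_surjective (isTame_rPow hR n m) hs
  have : (algebraMap (MvPolynomial (Fin m) (AdicRing.RPow R I n)) C).comp (algebraMap R _) = algebraMap R C := by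
    ext r
    rw [RingHom.comp_apply, IsScalarTower.algebraMap_apply R (AdicRing.RPow R I n) (MvPolynomial (Fin m) (AdicRing.RPow R I n)),
      RingHom.algebraMap_toAlgebra, RingHom.comp_apply, MvPolynomial.algebraMap_eq, MvPolynomial.map_C]
    rw [show φ.toRingHom (algebraMap R _ r) = algebraMap R A r from φ.commutes r]
    exact (g.commutes _).trans (IsScalarTower.algebraMap_apply R A C r).symm
  rwa [Ideal.map_map, this] at h

theorem isTame_self (hR : AdicRing.IsBase R I) {A : Type u} [CommRing A] [Algebra R A]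
    (hA : AdicRing.TopFiniteType R I A) : Tame.IsTame (I.map (algebraMap R A)) :=
  have : Algebra.FiniteType A A := inferInstance
  isTame hR hA A

theorem le_jacobson (hR : AdicRing.IsBase R I) {A : Type u} [CommRing A] [Algebra R A]
    (hA : AdicRing.TopFiniteType R I A) : I.map (algebraMap R A) ≤ Ideal.jacobson ⊥ := by
  obtain ⟨n, φ, hφ⟩ := hA
  have := isAdicComplete_rPow hR n
  have h := IsAdicComplete.le_jacobson_bot (I.map (algebraMap R (AdicRing.RPow R I n)))
  rw [← φ.comp_algebraMap, ← Ideal.map_map]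
  refine (Ideal.map_mono h).trans fun x hx => Submodule.mem_sInf.mpr fun M ⟨_, hM⟩ => ?_
  refine (Ideal.map_le_iff_le_comap.mpr fun y hy => ?_) hx
  have : (Ideal.comap φ.toRingHom M).IsMaximal := Ideal.comap_isMaximal_of_surjective _ hφ
  exact Submodule.mem_sInf.mp hy (Ideal.comap φ.toRingHom M) ⟨bot_le, this⟩

theorem isHausdorff (hR : AdicRing.IsBase R I) {A : Type u} [CommRing A] [Algebra R A]
    (hA : AdicRing.TopFiniteType R I A) (M : Type*) [AddCommGroup M] [Module A M] [Module.Finite A M] :
    IsHausdorff (I.map (algebraMap R A)) M :=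
  Tame.isHausdorff (isTame_self hR hA) (le_jacobson hR hA)

theorem isPrecomplete (hR : AdicRing.IsBase R I) {A : Type u} [CommRing A] [Algebra R A]
    (hA : AdicRing.TopFiniteType R I A) (M : Type*) [AddCommGroup M] [Module A M] [Module R M]
    [IsScalarTower R A M] [Module.Finite A M] : IsPrecomplete I M := by
  obtain ⟨n, φ, hφ⟩ := hA
  let _ : Module (AdicRing.RPow R I n) M := Module.compHom M φ.toRingHom
  have : IsScalarTower R (AdicRing.RPow R I n) M := .of_algebraMap_smul fun r x => by
    change φ (algebraMap R _ r) • x = _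
    rw [φ.commutes, algebraMap_smul]
  have : Module.Finite (AdicRing.RPow R I n) M := by
    obtain ⟨T, hT⟩ := (Module.Finite.fg_top : (⊤ : Submodule A M).FG)
    refine ⟨⟨T, eq_top_iff.mpr fun x hx0 => ?_⟩⟩
    clear hx0
    have hx : x ∈ span A (T : Set M) := hT ▸ mem_top
    induction hx using Submodule.span_induction with
    | mem y hy => exact subset_span hy
    | zero => exact zero_mem _
    | add a b _ _ ha hb => exact add_mem ha hb
    | smul c a _ ha =>
      obtain ⟨c, rfl⟩ := hφ c
      exact smul_mem _ c ha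
  have := isAdicComplete_rPow hR n
  exact IsPrecomplete.map_algebraMap_iff.mp (Groth.Agent.Adic.FiniteModule.isPrecomplete_of_finite
    (A := AdicRing.RPow R I n) (I := I.map (algebraMap R (AdicRing.RPow R I n))))

theorem isAdicComplete (hR : AdicRing.IsBase R I) {A : Type u} [CommRing A] [Algebra R A]
    (hA : AdicRing.TopFiniteType R I A) (M : Type*) [AddCommGroup M] [Module A M] [Module R M]
    [IsScalarTower R A M] [Module.Finite A M] : IsAdicComplete I M where
  toIsHausdorff := IsHausdorff.map_algebraMap_iff.mp (isHausdorff hR hA M)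
  toIsPrecomplete := isPrecomplete hR hA M

/-- `C` is complete when finite over an algebra topologically of finite type. -/
theorem isAdicComplete_map (hR : AdicRing.IsBase R I) {A : Type u} [CommRing A] [Algebra R A]
    (hA : AdicRing.TopFiniteType R I A) : IsAdicComplete (I.map (algebraMap R A)) A :=
  have := isAdicComplete hR hA A
  { toIsHausdorff := IsHausdorff.map_algebraMap_iff.mpr this.toIsHausdorff
    toIsPrecomplete := IsPrecomplete.map_algebraMap_iff.mpr this.toIsPrecomplete }

end Groth.Agent.Adic.Base.Classes
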