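import Groth.Agent.Adic.Base.Classes
import Mathlib.RingTheory.AdicCompletion.AsTensorProduct
import Mathlib.RingTheory.Flat.TorsionFree
import Mathlib.RingTheory.Polynomial.Basic
import Mathlib.Algebra.Module.FinitePresentation
import Mathlib.RingTheory.Localization.Away.AdjoinRoot

/-! Finiteness and flatness over algebras topologically of finite type. -/

namespace Groth.Agent.Adic.Base.Finite

open Submodule TensorProduct

universe u

variable {R : Type u} [CommRing R] {I : Ideal R} (hR : AdicRing.IsBase R I)
  {A : Type u} [CommRing A] [Algebra R A]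

include hR

theorem isNoetherianRing (hN : IsNoetherianRing R) (hA : AdicRing.TopFiniteType R I A) :
    IsNoetherianRing A := by
  obtain ⟨n, φ, hφ⟩ := hA
  have := Classes.isNoetherianRing_rPow (I := I) n
  exact isNoetherianRing_of_surjective _ _ φ.toRingHom hφ

/-- Saturated submodules of finite modules over finite type algebras are finitely generated. -/
theorem fg_of_saturated (hA : AdicRing.TopFiniteType R I A) {C : Type u} [CommRing C] [Algebra R C]
    [Algebra A C] [IsScalarTower R A C] [Algebra.FiniteType A C] {M : Type*} [AddCommGroup M] [Module C M]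
    [Module.Finite C M] (N : Submodule C M)
    (hsat : ∀ x, (∀ a ∈ I, algebraMap R C a • x ∈ N) → x ∈ N) : N.FG := by
  rcases Classes.cases_of_isBase hR with ⟨hN, -⟩ | ⟨_, _, _, t, ht, htm, hI⟩
  · have := isNoetherianRing hR hN hA
    have : IsNoetherianRing C := Algebra.FiniteType.isNoetherianRing A C
    exact IsNoetherian.noetherian N
  subst hI
  obtain ⟨n, φ, hφ⟩ := hA
  obtain ⟨m, g, hg⟩ := Algebra.FiniteType.iff_quotient_mvPolynomial''.mp (inferInstance : Algebra.FiniteType A C)
  let π : MvPolynomial (Fin m) (AdicRing.RPow R (Ideal.span {t}) n) →+* C :=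
    g.toRingHom.comp (MvPolynomial.map φ.toRingHom)
  have hπ : Function.Surjective π := hg.comp (MvPolynomial.map_surjective _ hφ)
  have hπR : ∀ r, π (algebraMap R _ r) = algebraMap R C r := by
    intro r
    rw [IsScalarTower.algebraMap_apply R (AdicRing.RPow R (Ideal.span {t}) n) (MvPolynomial (Fin m) (AdicRing.RPow R (Ideal.span {t}) n)),
      RingHom.comp_apply, MvPolynomial.algebraMap_eq, MvPolynomial.map_C,
      show φ.toRingHom (algebraMap R _ r) = algebraMap R A r from φ.commutes r]
    exact (g.commutes _).trans (IsScalarTower.algebraMap_apply R A C r).symm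
  let _ : Algebra (MvPolynomial (Fin m) (AdicRing.RPow R (Ideal.span {t}) n)) C := π.toAlgebra
  let _ : Module (MvPolynomial (Fin m) (AdicRing.RPow R (Ideal.span {t}) n)) M := Module.compHom M π
  have : IsScalarTower (MvPolynomial (Fin m) (AdicRing.RPow R (Ideal.span {t}) n)) C M :=
    .of_algebraMap_smul fun p x => rfl
  have : Module.Finite (MvPolynomial (Fin m) (AdicRing.RPow R (Ideal.span {t}) n)) C :=
    Module.Finite.of_surjective (Algebra.linearMap _ C) hπ
  have : Module.Finite (MvPolynomial (Fin m) (AdicRing.RPow R (Ideal.span {t}) n)) M :=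
    Module.Finite.trans C M
  obtain ⟨s, f, hf⟩ := Module.Finite.exists_fin' (MvPolynomial (Fin m) (AdicRing.RPow R (Ideal.span {t}) n)) M
  have h1 := RestrictedPoly.fg_submodule ht htm s ((N.restrictScalars _).comap f) fun x hx => hsat (f x) fun a ha => by
    obtain ⟨c, rfl⟩ := Ideal.mem_span_singleton'.mp ha
    rw [mem_comap, map_smul, restrictScalars_mem] at hx
    rw [map_mul, mul_smul]
    refine N.smul_mem _ ?_
    rw [← hπR]
    exact hx
  have h2 := h1.map f
  rw [map_comap_eq_of_surjective hf] at h2
  obtain ⟨T, hT⟩ := h2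
  refine ⟨T, le_antisymm (span_le.mpr fun x hx => ?_) fun x hx => ?_⟩
  · exact (hT ▸ subset_span hx : x ∈ N.restrictScalars _)
  · have : x ∈ N.restrictScalars (MvPolynomial (Fin m) (AdicRing.RPow R (Ideal.span {t}) n)) := hx
    rw [← hT] at this
    exact span_le_restrictScalars (MvPolynomial (Fin m) (AdicRing.RPow R (Ideal.span {t}) n)) C (T : Set M) this

theorem fg_of_saturated_self (hA : AdicRing.TopFiniteType R I A) {M : Type*} [AddCommGroup M] [Module A M]
    [Module R M] [IsScalarTower R A M] [Module.Finite A M] (N : Submodule A M)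
    (hsat : ∀ x, (∀ a ∈ I, a • x ∈ N) → x ∈ N) : N.FG :=
  fg_of_saturated hR hA (C := A) N fun x hx => hsat x fun a ha => algebraMap_smul A a x ▸ hx a ha

theorem topFinitePresentation (hA : AdicRing.TopFiniteType R I A) (hT : AdicRing.NoPowTorsion I A) :
    AdicRing.TopFinitePresentation R I A := by
  obtain ⟨n, φ, hφ⟩ := hA
  refine ⟨n, φ, hφ, ?_⟩
  refine fg_of_saturated_self hR (A := AdicRing.RPow R I n) ⟨n, AlgHom.id R _, fun x => ⟨x, rfl⟩⟩
    (RingHom.ker φ.toRingHom) fun x hx => ?_
  rw [RingHom.mem_ker]
  refine hT _ 1 fun a ha => ?_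
  rw [pow_one] at ha
  have h1 : φ (a • x) = 0 := hx a ha
  rwa [map_smul] at h1

theorem finitePresentation_of_flat (hA : AdicRing.TopFiniteType R I A) (M : Type*) [AddCommGroup M]
    [Module A M] [Module R M] [IsScalarTower R A M] [Module.Finite A M] [Module.Flat R M] :
    Module.FinitePresentation A M := by
  obtain ⟨s, f, hf⟩ := Module.Finite.exists_fin' A M
  refine Module.finitePresentation_of_free_of_surjective f hf ?_
  rcases Classes.cases_of_isBase hR with ⟨hN, -⟩ | ⟨_, _, _, t, ht, htm, rfl⟩
  · have := isNoetherianRing hR hN hA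
    exact IsNoetherian.noetherian _
  refine fg_of_saturated_self hR hA _ fun x hx => ?_
  have h1 := hx t (Ideal.mem_span_singleton_self t)
  rw [LinearMap.mem_ker, LinearMap.map_smul_of_tower] at h1
  rw [LinearMap.mem_ker]
  exact smul_right_injective M ht (by simpa using h1)

theorem coherent (hA : AdicRing.TopFinitePresentation R I A) (J : Ideal A) (hJ : J.FG) :
    Module.FinitePresentation A J := by
  have hft : AdicRing.TopFiniteType R I A := ⟨hA.choose, hA.choose_spec.choose, hA.choose_spec.choose_spec.1⟩
  rcases Classes.cases_of_isBase hR with ⟨hN, -⟩ | ⟨_, _, _, t, ht, htm, rfl⟩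
  · have := isNoetherianRing hR hN hft
    have : Module.Finite A J := Module.Finite.iff_fg.mpr hJ
    exact Module.finitePresentation_of_finite A J
  obtain ⟨n, φ, hφ, hK⟩ := hA
  obtain ⟨s, j, hj⟩ := Submodule.fg_iff_exists_fin_generating_family.mp hJ
  obtain ⟨r, k, hk⟩ := Submodule.fg_iff_exists_fin_generating_family.mp hK
  choose j' hj' using fun i => hφ (j i)
  let L := LinearMap.ker (Fintype.linearCombination (AdicRing.RPow R (Ideal.span {t}) n) (Fin.append j' k))
  have hL : L.FG := fg_of_saturated_self hR (A := AdicRing.RPow R (Ideal.span {t}) n)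
    ⟨n, AlgHom.id R _, fun x => ⟨x, rfl⟩⟩ L fun x hx => by
      have h1 := hx t (Ideal.mem_span_singleton_self t)
      rw [LinearMap.mem_ker, LinearMap.map_smul_of_tower, Algebra.smul_def] at h1
      exact RestrictedPoly.eq_zero_of_mul t n ht h1
  let pr : (Fin (s + r) → AdicRing.RPow R (Ideal.span {t}) n) →+ (Fin s → A) :=
    { toFun := fun x i => φ (x (Fin.castAdd r i))
      map_zero' := by ext; simp
      map_add' := fun x y => by ext; simp }
  let f : (Fin s → A) →ₗ[A] J := (Fintype.linearCombination A fun i =>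
    (⟨j i, hj ▸ subset_span (Set.mem_range_self i)⟩ : J))
  have hf : Function.Surjective f := by
    rintro ⟨y, hy⟩
    obtain ⟨c, hc⟩ := (Submodule.mem_span_range_iff_exists_fun A).mp (hj.symm ▸ hy : y ∈ span A (Set.range j))
    exact ⟨c, Subtype.ext (by simpa [f, Fintype.linearCombination_apply] using hc)⟩
  refine Module.finitePresentation_of_free_of_surjective f hf ?_
  classical
  obtain ⟨T, hT⟩ := hL
  refine ⟨T.image pr, le_antisymm (span_le.mpr ?_) fun c hc => ?_⟩
  · rw [Finset.coe_image]
    rintro _ ⟨x, hx, rfl⟩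
    have hxL : x ∈ L := hT ▸ subset_span hx
    rw [LinearMap.mem_ker, Fintype.linearCombination_apply, Fin.sum_univ_add] at hxL
    have h2 := congrArg φ hxL
    rw [map_zero, map_add, map_sum, map_sum, Finset.sum_eq_zero (f := fun i => φ _) (s := (Finset.univ : Finset (Fin r))), add_zero] at h2
    · refine LinearMap.mem_ker.mpr (Subtype.ext ?_)
      simpa [f, pr, Fintype.linearCombination_apply, hj'] using h2
    · intro i _
      have : φ.toRingHom (k i) = 0 := RingHom.mem_ker.mp (hk ▸ subset_span (Set.mem_range_self i))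
      simp only [Fin.append_right, smul_eq_mul, map_mul]
      exact mul_eq_zero_of_right _ this
  · choose c' hc' using fun i => hφ (c i)
    have h2 : ∑ i, c' i * j' i ∈ RingHom.ker φ.toRingHom := by
      rw [RingHom.mem_ker]
      have := congrArg Subtype.val (LinearMap.mem_ker.mp hc)
      simpa [f, Fintype.linearCombination_apply, hc', hj'] using this
    rw [← hk] at h2
    obtain ⟨d, hd⟩ := (Submodule.mem_span_range_iff_exists_fun _).mp h2
    have hxL : Fin.append c' (-d) ∈ L := by
      rw [LinearMap.mem_ker, Fintype.linearCombination_apply, Fin.sum_univ_add]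
      simp only [Fin.append_left, Fin.append_right, Pi.neg_apply, neg_smul, Finset.sum_neg_distrib, hd, smul_eq_mul]
      rw [← sub_eq_zero.mpr (show ∑ x, c' x * j' x = ∑ x, d x * k x by simpa using hd.symm), sub_eq_add_neg, ← Finset.sum_neg_distrib]
      simp [neg_mul]
    have key : ∀ x ∈ span (AdicRing.RPow R (Ideal.span {t}) n) (T : Set (Fin (s + r) → AdicRing.RPow R (Ideal.span {t}) n)),
        pr x ∈ span A (↑(T.image pr) : Set (Fin s → A)) := by
      intro x hx
      induction hx using Submodule.span_induction with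
      | mem x hx => exact subset_span (Finset.mem_coe.mpr (Finset.mem_image_of_mem _ hx))
      | zero => rw [map_zero]; exact zero_mem _
      | add a b _ _ ha hb => rw [map_add]; exact add_mem ha hb
      | smul a x _ hx =>
        have : pr (a • x) = φ a • pr x := by ext i; simp [pr]
        rw [this]; exact smul_mem _ _ hx
    have h3 := key _ (hT ▸ hxL)
    rwa [show pr (Fin.append c' (-d)) = c by ext i; simp [pr, hc']] at h3

theorem flat_rPow (n : ℕ) : Module.Flat R (AdicRing.RPow R I n) := by
  rcases Classes.cases_of_isBase hR with ⟨hN, -⟩ | ⟨_, _, _, t, ht, htm, rfl⟩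
  · exact Module.Flat.trans R (MvPolynomial (Fin n) R) _
  · have : Module.IsTorsionFree R (AdicRing.RPow R (Ideal.span {t}) n) := by
      refine Module.isTorsionFree_iff_smul_eq_zero.mpr fun c x hcx => ?_
      by_contra! h
      obtain ⟨j, u, hu⟩ := Saturated.exists_dvd_pow ((IsLocalRing.mem_maximalIdeal t).mp htm) h.1
      have hj : t ^ j • x = 0 := by rw [hu, mul_comm, mul_smul, hcx, smul_zero]
      clear hu hcx
      induction j with
      | zero => exact h.2 (by simpa using hj)
      | succ j ih =>
        refine ih ?_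
        rw [pow_succ', mul_smul, Algebra.smul_def] at hj
        exact RestrictedPoly.eq_zero_of_mul t n ht hj
    rw [Module.Flat.flat_iff_torsion_eq_bot_of_isBezout]
    exact Submodule.isTorsionFree_iff_torsion_eq_bot.mp this

theorem flat_cLoc (hA : AdicRing.TopFiniteType R I A) (f : A) : Module.Flat A (AdicRing.CLoc I f) := by
  have : Module.Flat (Localization.Away f) (AdicRing.CLoc I f) :=
    Tame.flat (Classes.isTame hR hA (Localization.Away f))
  have : Module.Flat A (Localization.Away f) := IsLocalization.flat _ (Submonoid.powers f)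
  exact Module.Flat.trans A (Localization.Away f) _

theorem faithfullyFlat_pi_cLoc (hA : AdicRing.TopFiniteType R I A) {r : ℕ} (f : Fin r → A)
    (hf : Ideal.span (Set.range f) = ⊤) : Module.FaithfullyFlat A (∀ i, AdicRing.CLoc I (f i)) := by
  have := flat_cLoc hR hA
  rw [Module.faithfullyFlat_iff]
  refine ⟨Module.Flat.of_linearEquiv (DFinsupp.linearEquivFunOnFintype (R := A) (M := fun i => AdicRing.CLoc I (f i))).symm, fun m hm htop => ?_⟩
  have hIm : I.map (algebraMap R A) ≤ m := fun x hx =>
    Submodule.mem_sInf.mp (Classes.le_jacobson hR hA hx) m ⟨bot_le, hm⟩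
  obtain ⟨i, hi⟩ : ∃ i, f i ∉ m := by
    by_contra! h
    exact hm.ne_top (top_le_iff.mp (hf ▸ Ideal.span_le.mpr (by rintro _ ⟨i, rfl⟩; exact h i)))
  have hu : IsUnit (Ideal.Quotient.mk m (f i)) := by
    let := Ideal.Quotient.field m
    exact Ne.isUnit fun h => hi (Ideal.Quotient.eq_zero_iff_mem.mp h)
  let g : Localization.Away (f i) →+* A ⧸ m := IsLocalization.Away.lift (f i) hu
  let h : Localization.Away (f i) ⧸ I.map (algebraMap R (Localization.Away (f i))) →+* A ⧸ m :=
    Ideal.Quotient.lift _ g fun x hx => by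
      have hle : I.map (algebraMap R (Localization.Away (f i))) ≤ RingHom.ker g := by
        rw [IsScalarTower.algebraMap_eq R A (Localization.Away (f i)), ← Ideal.map_map, Ideal.map_le_iff_le_comap]
        intro y hy
        rw [Ideal.mem_comap, RingHom.mem_ker, IsLocalization.Away.lift_eq]
        exact Ideal.Quotient.eq_zero_iff_mem.mpr (hIm hy)
      exact hle hx
  let Ψ : (∀ i, AdicRing.CLoc I (f i)) →+* A ⧸ m :=
    (h.comp (AdicCompletion.evalOneₐ _).toRingHom).comp (Pi.evalRingHom _ i)
  have hΨ : ∀ a : A, Ψ (algebraMap A _ a) = Ideal.Quotient.mk m a := fun a => by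
    change h (AdicCompletion.evalOneₐ _ (algebraMap A (AdicRing.CLoc I (f i)) a)) = _
    rw [IsScalarTower.algebraMap_apply A (Localization.Away (f i)) (AdicRing.CLoc I (f i)), AlgHom.commutes]
    exact (Ideal.Quotient.lift_mk _ _ _).trans (IsLocalization.Away.lift_eq _ _ _)
  have h1 : (1 : ∀ i, AdicRing.CLoc I (f i)) ∈ m • (⊤ : Submodule A (∀ i, AdicRing.CLoc I (f i))) := by
    rw [htop]; exact mem_top
  have h2 : ∀ z ∈ m • (⊤ : Submodule A (∀ i, AdicRing.CLoc I (f i))), Ψ z = 0 := fun z hz =>
    Submodule.smul_induction_on hz (fun a ha z _ => by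
      rw [Algebra.smul_def, map_mul, hΨ, Ideal.Quotient.eq_zero_iff_mem.mpr ha, zero_mul])
      (fun a b ha hb => by rw [map_add, ha, hb, add_zero])
  have : Nontrivial (A ⧸ m) := Ideal.Quotient.nontrivial_iff.mpr hm.ne_top
  exact one_ne_zero ((map_one Ψ).symm.trans (h2 1 h1))

variable {B : Type u} [CommRing B] [Algebra R B] [Algebra A B] [IsScalarTower R A B]
  (M : Type u) [AddCommGroup M] [Module B M] [Module A M] [IsScalarTower A B M] [Module.Finite B M]

theorem flat_iff_trunc (hA : AdicRing.TopFiniteType R I A) (hB : AdicRing.TopFiniteType R I B) :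
    Module.Flat A M ↔ ∀ n, Module.Flat (AdicRing.trunc A I n) ((AdicRing.trunc A I n) ⊗[A] M) := by
  refine ⟨fun _ n => inferInstance, fun h => ?_⟩
  have hmap : (I.map (algebraMap R A)).map (algebraMap A B) = I.map (algebraMap R B) := by
    rw [Ideal.map_map, ← IsScalarTower.algebraMap_eq]
  refine Tame.flat_of_flat_quotient (C := B) (Classes.isTame_self hR hA) ?_ ?_ fun n => ?_
  · rw [hmap]; exact Classes.isTame_self hR hB
  · rw [hmap]; exact Classes.le_jacobson hR hB
  · rw [← Ideal.map_pow]; exact h n

theorem faithfullyFlat_iff_trunc (hA : AdicRing.TopFiniteType R I A) (hB : AdicRing.TopFiniteType R I B) :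
    Module.FaithfullyFlat A M ↔
      ∀ n, Module.FaithfullyFlat (AdicRing.trunc A I n) ((AdicRing.trunc A I n) ⊗[A] M) := by
  refine ⟨fun _ n => inferInstance, fun h => ?_⟩
  rw [Module.faithfullyFlat_iff]
  refine ⟨(flat_iff_trunc hR M hA hB).mpr fun n => (h n).toFlat, fun m hm htop => ?_⟩
  set K := (I ^ (0 + 1)).map (algebraMap R A)
  have hKm : K ≤ m := fun x hx => Submodule.mem_sInf.mp (Classes.le_jacobson hR hA
    (Ideal.map_mono (Ideal.pow_le_self (Nat.succ_ne_zero 0)) hx)) m ⟨bot_le, hm⟩
  have hmax : (m.map (Ideal.Quotient.mk K)).IsMaximal :=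
    Ideal.IsMaximal.map_of_surjective_of_ker_le Ideal.Quotient.mk_surjective (by rw [Ideal.mk_ker]; exact hKm)
  refine (h 0).submodule_ne_top hmax (eq_top_iff.mpr fun z _ => ?_)
  induction z with
  | zero => exact zero_mem _
  | add a b ha hb => exact add_mem (ha trivial) (hb trivial)
  | tmul a x =>
    rw [← mul_one a, ← smul_eq_mul, ← smul_tmul']
    refine smul_mem _ a ?_
    refine Submodule.smul_induction_on (show x ∈ m • (⊤ : Submodule A M) by rw [htop]; exact mem_top) (fun c hc y _ => ?_)
      (fun a b ha hb => by rw [tmul_add]; exact add_mem ha hb)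
    rw [tmul_smul, ← algebraMap_smul (AdicRing.trunc A I 0) c ((1 : AdicRing.trunc A I 0) ⊗ₜ[A] y)]
    exact smul_mem_smul (Ideal.mem_map_of_mem _ hc) mem_top

end Groth.Agent.Adic.Base.Finite
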