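import Groth.Agent.Adic.Base.Classes
import Groth.Agent.Adic.Base.CompletionMap
import Groth.Agent.Adic.Base.Finite
import Mathlib.RingTheory.Finiteness.Basic

/-! Finite algebras over algebras topologically of finite type. -/

namespace Groth.Agent.Adic.Base.FiniteAlgebra

universe u

variable {R : Type u} [CommRing R] {I : Ideal R}

/-- The comparison map of restricted power series rings along a map of variables. -/
theorem exists_rename (hR : AdicRing.IsBase R I) {k m : ℕ} (σ : Fin k → Fin m) :
    ∃ j : AdicRing.RPow R I k →+* AdicRing.RPow R I m,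
      ∀ p, j (algebraMap (MvPolynomial (Fin k) R) _ p) =
        algebraMap (MvPolynomial (Fin m) R) _ (MvPolynomial.rename σ p) := by
  have := Classes.isAdicComplete_rPow hR m
  let g : MvPolynomial (Fin k) R →+* AdicRing.RPow R I m :=
    (algebraMap (MvPolynomial (Fin m) R) _).comp (MvPolynomial.rename σ).toRingHom
  have hg : I.map (MvPolynomial.C : R →+* MvPolynomial (Fin k) R) ≤
      (I.map (algebraMap R (AdicRing.RPow R I m))).comap g :=
    Ideal.map_le_iff_le_comap.mpr fun r hr => by
      rw [Ideal.mem_comap, Ideal.mem_comap]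
      have : g (MvPolynomial.C r) = algebraMap R (AdicRing.RPow R I m) r := by
        rw [IsScalarTower.algebraMap_apply R (MvPolynomial (Fin m) R) (AdicRing.RPow R I m)]
        exact congrArg (algebraMap (MvPolynomial (Fin m) R) _) (MvPolynomial.rename_C σ r)
      exact this ▸ Ideal.mem_map_of_mem _ hr
  exact ⟨CompletionMap.extend _ g hg, CompletionMap.extend_of _ g hg⟩

theorem topFiniteType (hR : AdicRing.IsBase R I) {A : Type u} [CommRing A] [Algebra R A]
    (hA : AdicRing.TopFiniteType R I A) (B : Type u) [CommRing B] [Algebra R B] [Algebra A B]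
    [IsScalarTower R A B] [Module.Finite A B] : AdicRing.TopFiniteType R I B := by
  classical
  obtain ⟨s, hs⟩ := (inferInstance : Algebra.FiniteType A B).out
  obtain ⟨k, φ, hφ⟩ := hA
  have : IsAdicComplete (I.map (algebraMap R B)) B :=
    have := Classes.isAdicComplete hR ⟨k, φ, hφ⟩ B
    { toIsHausdorff := IsHausdorff.map_algebraMap_iff.mpr this.toIsHausdorff
      toIsPrecomplete := IsPrecomplete.map_algebraMap_iff.mpr this.toIsPrecomplete }
  let b : Fin s.card → B := fun i => (s.equivFin.symm i : B)
  let v : Fin (k + s.card) → B :=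
    Fin.append (fun i => algebraMap A B (φ (algebraMap (MvPolynomial (Fin k) R) _ (MvPolynomial.X i)))) b
  let g : MvPolynomial (Fin (k + s.card)) R →ₐ[R] B := MvPolynomial.aeval v
  have hg : I.map (MvPolynomial.C : R →+* MvPolynomial (Fin (k + s.card)) R) ≤
      (I.map (algebraMap R B)).comap g.toRingHom :=
    Ideal.map_le_iff_le_comap.mpr fun r hr => by
      rw [Ideal.mem_comap, Ideal.mem_comap]
      exact (show g.toRingHom (MvPolynomial.C r) = algebraMap R B r from MvPolynomial.aeval_C _ r) ▸
        Ideal.mem_map_of_mem _ hr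
  let e := CompletionMap.extend _ g.toRingHom hg
  have he : ∀ p, e (algebraMap (MvPolynomial (Fin (k + s.card)) R) _ p) = g p :=
    CompletionMap.extend_of _ g.toRingHom hg
  have hec : ∀ r : R, e (algebraMap R _ r) = algebraMap R B r := fun r => by
    rw [IsScalarTower.algebraMap_apply R (MvPolynomial (Fin (k + s.card)) R) (AdicRing.RPow R I (k + s.card))]
    exact (he _).trans (g.commutes r)
  obtain ⟨j, hj⟩ := exists_rename hR (I := I) (Fin.castAdd s.card : Fin k → Fin (k + s.card))
  have hpoly : ∀ p : MvPolynomial (Fin k) R, e (j (algebraMap _ _ p)) = algebraMap A B (φ (algebraMap _ _ p)) := by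
    intro p
    rw [hj, he]
    refine AlgHom.congr_fun (show g.comp (MvPolynomial.rename (Fin.castAdd s.card)) =
      ((IsScalarTower.toAlgHom R A B).comp φ).comp (IsScalarTower.toAlgHom R (MvPolynomial (Fin k) R) (AdicRing.RPow R I k))
      from MvPolynomial.algHom_ext fun i => by simp [g, v]) p
  have hA' : e.comp j = (algebraMap A B).comp φ.toRingHom := by
    refine CompletionMap.hom_ext (I.map (algebraMap R B)) (Ideal.FG.map (Classes.fg_of_isBase hR) _) ?_
      (RingHom.ext hpoly)
    refine Ideal.map_le_iff_le_comap.mpr fun r hr => ?_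
    rw [Ideal.mem_comap, Ideal.mem_comap]
    refine (show ((e.comp j).comp (algebraMap (MvPolynomial (Fin k) R) _)) (MvPolynomial.C r) = algebraMap R B r from ?_) ▸
      Ideal.mem_map_of_mem _ hr
    refine (hpoly _).trans ((congrArg (fun z => algebraMap A B (φ z))
      (IsScalarTower.algebraMap_apply R (MvPolynomial (Fin k) R) (AdicRing.RPow R I k) r).symm).trans ?_)
    show algebraMap A B (φ (algebraMap R (AdicRing.RPow R I k) r)) = _
    rw [AlgHom.commutes, ← IsScalarTower.algebraMap_apply R A B]
  refine ⟨k + s.card, { e with commutes' := hec }, fun x => ?_⟩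
  change x ∈ Set.range e
  induction (hs ▸ Algebra.mem_top : x ∈ Algebra.adjoin A (s : Set B)) using Algebra.adjoin_induction with
  | mem x hx =>
    exact ⟨algebraMap (MvPolynomial (Fin (k + s.card)) R) _ (MvPolynomial.X (Fin.natAdd k (s.equivFin ⟨x, hx⟩))), by simp [he, g, v, b]⟩
  | algebraMap a =>
    obtain ⟨y, rfl⟩ := hφ a
    exact ⟨j y, RingHom.congr_fun hA' y⟩
  | add x y _ _ hx hy =>
    obtain ⟨⟨a, rfl⟩, b', rfl⟩ := hx, hy
    exact ⟨a + b', map_add e a b'⟩
  | mul x y _ _ hx hy =>
    obtain ⟨⟨a, rfl⟩, b', rfl⟩ := hx, hy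
    exact ⟨a * b', map_mul e a b'⟩

end Groth.Agent.Adic.Base.FiniteAlgebra
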