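import Mathlib.RingTheory.MvPolynomial.Groebner
import Mathlib.RingTheory.MvPolynomial.MonomialOrder
import Mathlib.RingTheory.MvPolynomial.Homogeneous
import Mathlib.RingTheory.MvPolynomial.Ideal
import Mathlib.RingTheory.Valuation.ValuationRing
import Mathlib.RingTheory.AdicCompletion.Basic
import Mathlib.RingTheory.LocalRing.ResidueField.Basic
import Mathlib.RingTheory.KrullDimension.Basic
import Mathlib.Data.Finsupp.MonomialOrder
import Mathlib.Data.Finset.Finsupp
import Mathlib.Algebra.Order.Antidiag.Finsupp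
import Mathlib.RingTheory.Polynomial.Basic

/-! Saturated ideals over a complete valuation ring of height one are finitely generated
(Gröbner division modulo a small element). -/

namespace Groth.Agent.Adic.Base.Saturated

open MvPolynomial IsLocalRing
open scoped MonomialOrder

variable {R : Type*} [CommRing R] [IsDomain R] [ValuationRing R]

theorem exists_dvd_pow [Ring.KrullDimLE 1 R] {t : R} (ht : ¬ IsUnit t) {s : R} (hs : s ≠ 0) :
    ∃ j, s ∣ t ^ j := by
  by_contra! h
  obtain ⟨P, hP, hle, hdis⟩ := Ideal.exists_le_prime_disjoint (Ideal.span {s}) (Submonoid.powers t)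
    (Set.disjoint_left.mpr fun x hx hx' => by
      obtain ⟨j, rfl⟩ := hx'
      exact h j (Ideal.mem_span_singleton.mp hx))
  have hPne : P ≠ ⊥ := fun h0 => hs (Ideal.span_singleton_eq_bot.mp (le_bot_iff.mp (h0 ▸ hle)))
  have : P.IsMaximal := Ideal.IsPrime.isMaximal_of_ne_bot hP hPne
  rw [IsLocalRing.eq_maximalIdeal this] at hdis
  exact Set.disjoint_left.mp hdis ((mem_maximalIdeal _).mpr ht) ⟨1, pow_one t⟩

/-- Greatest common divisor of finitely many elements of the maximal ideal, including `t`. -/
theorem exists_small {t : R} (ht : t ≠ 0) (htm : t ∈ maximalIdeal R) (S : Finset R)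
    (hS : ∀ a ∈ S, a ∈ maximalIdeal R) :
    ∃ s ∈ maximalIdeal R, s ≠ 0 ∧ s ∣ t ∧ ∀ a ∈ S, s ∣ a := by
  classical
  induction S using Finset.induction_on with
  | empty => exact ⟨t, htm, ht, dvd_rfl, by simp⟩
  | insert a S ha ih =>
    obtain ⟨s, hsm, hs0, hst, hsS⟩ := ih fun b hb => hS b (Finset.mem_insert_of_mem hb)
    rcases ValuationRing.dvd_total s a with h | h
    · exact ⟨s, hsm, hs0, hst, by simpa [h] using hsS⟩
    · exact ⟨a, hS a (Finset.mem_insert_self a S), ne_zero_of_dvd_ne_zero hs0 h, h.trans hst,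
        by simpa using fun b hb => h.trans (hsS b hb)⟩

/-- A finite family has an element dividing all others. -/
theorem exists_dvd_all (S : Finset R) (hS : S.Nonempty) : ∃ c ∈ S, ∀ a ∈ S, c ∣ a := by
  classical
  induction hS using Finset.Nonempty.cons_induction with
  | singleton a => exact ⟨a, by simp⟩
  | cons a S ha hne ih =>
    obtain ⟨c, hc, hcS⟩ := ih
    rcases ValuationRing.dvd_total c a with h | h
    · exact ⟨c, by simp [hc], by simpa [h] using hcS⟩
    · exact ⟨a, by simp, by simpa using fun b hb => h.trans (hcS b hb)⟩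

/-- Data: a `t`-adically complete algebra in which polynomials are dense. -/
structure Dense (t : R) (n : ℕ) (P : Type*) [CommRing P] [Algebra R P] where
  ι : MvPolynomial (Fin n) R →ₐ[R] P
  dense : ∀ (x : P) (j : ℕ), ∃ p, algebraMap R P t ^ j ∣ x - ι p
  complete : IsAdicComplete (Ideal.span {algebraMap R P t}) P

variable {t : R} {n m : ℕ} {P : Type*} [CommRing P] [Algebra R P] (D : Dense t n P)

local notation "B" => MvPolynomial (Fin m) P

/-- All variables map to the polynomial ring over the dense algebra. -/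
noncomputable def Dense.ext (m : ℕ) : MvPolynomial (Fin (n + m)) R →ₐ[R] MvPolynomial (Fin m) P :=
  aeval (Fin.append (fun i => C (D.ι (X i))) X)

theorem ext_rename_left (p : MvPolynomial (Fin n) R) :
    D.ext m (rename (Fin.castAdd m) p) = C (D.ι p) := by
  have : (D.ext m).comp (rename (Fin.castAdd m)) =
      (IsScalarTower.toAlgHom R P (MvPolynomial (Fin m) P)).comp D.ι := by
    ext i; simp [Dense.ext, MvPolynomial.algebraMap_eq]
  exact AlgHom.congr_fun this p

include D in
theorem dense_ext (x : B) (j : ℕ) :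
    ∃ p, algebraMap R B t ^ j ∣ x - D.ext m p := by
  induction x using MvPolynomial.induction_on with
  | C a =>
    obtain ⟨p, d, hd⟩ := D.dense a j
    refine ⟨rename (Fin.castAdd m) p, C d, ?_⟩
    rw [ext_rename_left, ← map_sub, hd, map_mul, map_pow]
    rfl
  | add a b ha hb =>
    obtain ⟨p, hp⟩ := ha; obtain ⟨q, hq⟩ := hb
    exact ⟨p + q, by rw [map_add, add_sub_add_comm]; exact dvd_add hp hq⟩
  | mul_X a i ha =>
    obtain ⟨p, hp⟩ := ha
    refine ⟨p * X (Fin.natAdd n i), ?_⟩
    have : D.ext m (X (Fin.natAdd n i)) = X i := by simp [Dense.ext]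
    rw [map_mul, this, ← sub_mul]
    exact hp.mul_right _

/-- The component of degree `d` of a product with a homogeneous factor. -/
theorem component_mul {σ S : Type*} [CommSemiring S] {g : MvPolynomial σ S} {e : ℕ}
    (hg : g.IsHomogeneous e) (q : MvPolynomial σ S) (d : ℕ) :
    homogeneousComponent d (q * g) = if e ≤ d then homogeneousComponent (d - e) q * g else 0 := by
  conv_lhs => rw [← sum_homogeneousComponent q, Finset.sum_mul, map_sum]
  simp only [fun i => homogeneousComponent_of_mem (m := d)
    ((mem_homogeneousSubmodule _ _).mpr ((homogeneousComponent_isHomogeneous i q).mul hg))]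
  split_ifs with h
  · rw [Finset.sum_eq_single (d - e) (fun i _ hi => if_neg (by omega))]
    · rw [if_pos (by omega)]
    · intro hni
      rw [if_pos (by omega), homogeneousComponent_eq_zero _ _ (by have := Finset.mem_range.not.mp hni; omega), zero_mul]
  · exact Finset.sum_eq_zero fun i _ => if_neg (by omega)

theorem component_algebraMap_mul (r : R) (q : B) (d : ℕ) :
    homogeneousComponent d (algebraMap R B r * q) = algebraMap R B r * homogeneousComponent d q := by
  rw [IsScalarTower.algebraMap_apply R P B, MvPolynomial.algebraMap_eq, homogeneousComponent_C_mul]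

theorem exists_small_of_mem_map {A : Type*} [CommRing A] [Algebra R A] {t : R} (ht : t ≠ 0)
    (htm : t ∈ maximalIdeal R) {y : A} (hy : y ∈ (maximalIdeal R).map (algebraMap R A)) :
    ∃ s ∈ maximalIdeal R, algebraMap R A s ∣ y := by
  induction hy using Submodule.span_induction with
  | mem a ha => obtain ⟨r, hr, rfl⟩ := ha; exact ⟨r, hr, dvd_rfl⟩
  | zero => exact ⟨t, htm, dvd_zero _⟩
  | smul a x _ hx => obtain ⟨s, hs, h⟩ := hx; exact ⟨s, hs, h.mul_left a⟩
  | add a b _ _ ha hb =>
    obtain ⟨s, hs, h⟩ := ha; obtain ⟨s', hs', h'⟩ := hb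
    rcases ValuationRing.dvd_total s s' with hd | hd
    · exact ⟨s, hs, dvd_add h ((map_dvd _ hd).trans h')⟩
    · exact ⟨s', hs', dvd_add ((map_dvd _ hd).trans h) h'⟩

variable [Ring.KrullDimLE 1 R]

include D in
/-- Limit of a series in a fixed degree. -/
theorem exists_series (d : ℕ) (a : ℕ → B) (ha : ∀ j, (a j).IsHomogeneous d)
    (hdiff : ∀ j, algebraMap R B t ^ j ∣ a (j + 1) - a j) :
    ∃ A : B, ∀ j, algebraMap R B t ^ j ∣ A - a j := by
  classical
  have hc := D.complete
  have hpow : ∀ (j : ℕ) (u : P), u ∈ (Ideal.span {algebraMap R P t} ^ j • ⊤ : Submodule P P) ↔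
      algebraMap R P t ^ j ∣ u := fun j u => by
    rw [smul_eq_mul, Ideal.mul_top, Ideal.span_singleton_pow, Ideal.mem_span_singleton]
  have hC : ∀ j, algebraMap R B t ^ j = C (algebraMap R P t ^ j) := fun j => by
    rw [IsScalarTower.algebraMap_apply R P B, MvPolynomial.algebraMap_eq, map_pow]
  have hcoef : ∀ e : Fin m →₀ ℕ, ∃ L : P, ∀ j, algebraMap R P t ^ j ∣ L - (a j).coeff e := by
    intro e
    obtain ⟨L, hL⟩ := hc.prec (f := fun j => (a j).coeff e) fun {i k} hik => by
      induction hik with
      | refl => exact SModEq.refl _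
      | @step k hik ih =>
        refine ih.trans (SModEq.sub_mem.mpr ((hpow i _).mpr ?_))
        have h1 := hdiff k
        rw [hC, C_dvd_iff_dvd_coeff] at h1
        have h2 := h1 e
        rw [coeff_sub] at h2
        have h3 : algebraMap R P t ^ i ∣ (a (k + 1)).coeff e - (a k).coeff e :=
          (pow_dvd_pow _ hik).trans h2
        simpa [dvd_sub_comm] using h3
    exact ⟨L, fun j => dvd_sub_comm.mp ((hpow j _).mp (SModEq.sub_mem.mp (hL j)))⟩
  choose L hL using hcoef
  refine ⟨∑ e ∈ Finset.finsuppAntidiag Finset.univ d, monomial e (L e), fun j => ?_⟩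
  rw [hC, C_dvd_iff_dvd_coeff]
  intro e
  rw [coeff_sub, coeff_sum]
  simp only [coeff_monomial, Finset.sum_ite_eq']
  split_ifs with he
  · exact hL e j
  · rw [(ha j).coeff_eq_zero, sub_zero]
    · exact dvd_zero _
    · intro hdeg
      refine he (Finset.mem_finsuppAntidiag.mpr ⟨?_, Finset.subset_univ _⟩)
      rw [← hdeg, Finsupp.degree_eq_sum]

include D in
/-- Homogeneous saturated ideals are finitely generated. -/
theorem fg_of_homogeneous (ht : t ≠ 0) (htm : t ∈ maximalIdeal R) (N : Ideal B)
    (hN : ∀ x ∈ N, ∀ d, homogeneousComponent d x ∈ N)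
    (hsat : ∀ x, algebraMap R B t * x ∈ N → x ∈ N) : N.FG := by
  classical
  have htu : ¬ IsUnit t := (mem_maximalIdeal _).mp htm
  have hsat' : ∀ (c : R) (x : B), c ≠ 0 → algebraMap R B c * x ∈ N → x ∈ N := by
    intro c x hc hx
    obtain ⟨j, u, hu⟩ := exists_dvd_pow htu hc
    have h1 : algebraMap R B (t ^ j) * x ∈ N := by
      rw [hu, map_mul, mul_comm (algebraMap R B c), mul_assoc]; exact N.mul_mem_left _ hx
    clear hu hx
    induction j with
    | zero => simpa using h1
    | succ j ih => exact ih (hsat _ (by rwa [pow_succ', map_mul, mul_assoc] at h1))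
  let ι := D.ext m
  let res : MvPolynomial (Fin (n + m)) R →+* MvPolynomial (Fin (n + m)) (ResidueField R) :=
    MvPolynomial.map (residue R)
  let o : MonomialOrder (Fin (n + m)) := MonomialOrder.lex
  let J := (maximalIdeal R).map (algebraMap R B)
  let E : Set (Fin (n + m) →₀ ℕ) := {e | ∃ x ∈ N, ∃ d, x.IsHomogeneous d ∧
    ∃ p, x - ι p ∈ J ∧ res p ≠ 0 ∧ o.degree (res p) = e}
  obtain ⟨F, hFE, hF⟩ : ∃ F : Finset (Fin (n + m) →₀ ℕ), ↑F ⊆ E ∧ ∀ e ∈ E, ∃ f ∈ F, f ≤ e := by
    obtain ⟨s, hs, hspan⟩ := (Submodule.fg_span_iff_fg_span_finset_subset _).mp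
      (IsNoetherian.noetherian (Ideal.span ((fun e => monomial e (1 : ResidueField R)) '' E)))
    obtain ⟨F, hFE, rfl⟩ := Finset.subset_set_image_iff.mp hs
    refine ⟨F, hFE, fun e he => ?_⟩
    have h1 : monomial e (1 : ResidueField R) ∈ Ideal.span ((fun e => monomial e 1) '' (F : Set _)) := by
      rw [← Finset.coe_image]
      exact hspan.le (Ideal.subset_span ⟨e, he, rfl⟩)
    obtain ⟨f, hf, hfe⟩ := mem_ideal_span_monomial_image.mp h1 e (by simp)
    exact ⟨f, hf, hfe⟩
  have hsel : ∀ f : F, ∃ x ∈ N, ∃ d, x.IsHomogeneous d ∧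
      ∃ p, x - ι p ∈ J ∧ res p ≠ 0 ∧ o.degree (res p) = f.1 := fun f => hFE f.2
  choose g hgN dg hgd p hgp hp0 hpdeg using hsel
  choose sp hsp hspd using fun f : F => exists_small_of_mem_map ht htm (hgp f)
  let high : F → MvPolynomial (Fin (n + m)) R := fun f =>
    ∑ e ∈ (p f).support.filter (fun e => ¬ e ≼[o] f.1), monomial e ((p f).coeff e)
  let p' : F → MvPolynomial (Fin (n + m)) R := fun f => p f - high f
  have hhigh : ∀ (f : F) e, (high f).coeff e = if e ≼[o] f.1 then 0 else (p f).coeff e := by
    intro f e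
    simp only [high, coeff_sum, coeff_monomial, Finset.sum_ite_eq', Finset.mem_filter, mem_support_iff]
    by_cases h : e ≼[o] f.1
    · rw [if_neg fun h' => h'.2 h, if_pos h]
    · rw [if_neg h]
      by_cases h0 : (p f).coeff e = 0
      · simp [h0]
      · rw [if_pos ⟨h0, h⟩]
  have hhm : ∀ (f : F), ∀ e ∈ (high f).support, (high f).coeff e ∈ maximalIdeal R := by
    intro f e he
    rw [mem_support_iff, hhigh] at he
    split_ifs at he with h
    · exact absurd rfl he
    · rw [hhigh, if_neg h, ← residue_eq_zero_iff]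
      by_contra hne
      refine h (hpdeg f ▸ o.le_degree (mem_support_iff.mpr ?_))
      rw [MvPolynomial.coeff_map]; exact hne
  obtain ⟨s, hsm, hs0, hst, hsall⟩ := exists_small ht htm
    ((Finset.univ.image sp) ∪ Finset.univ.biUnion fun f => (high f).support.image (high f).coeff) (by
      intro a ha
      rcases Finset.mem_union.mp ha with h | h
      · obtain ⟨f, -, rfl⟩ := Finset.mem_image.mp h; exact hsp f
      · obtain ⟨f, -, h⟩ := Finset.mem_biUnion.mp h
        obtain ⟨e, he, rfl⟩ := Finset.mem_image.mp h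
        exact hhm f e he)
  have hgs : ∀ f, algebraMap R B s ∣ g f - ι (p' f) := by
    intro f
    rw [show p' f = p f - high f from rfl, map_sub, sub_sub_eq_add_sub, add_sub_right_comm]
    refine dvd_add ((map_dvd _ (hsall _ (Finset.mem_union_left _ (Finset.mem_image_of_mem sp (Finset.mem_univ f))))).trans (hspd f)) ?_
    rw [(high f).as_sum, map_sum]
    refine Finset.dvd_sum fun e he => ?_
    rw [← mul_one ((high f).coeff e), ← smul_eq_mul, ← smul_monomial, map_smul, Algebra.smul_def]
    exact (map_dvd _ (hsall _ (Finset.mem_union_right _ (Finset.mem_biUnion.mpr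
      ⟨f, Finset.mem_univ f, Finset.mem_image_of_mem _ he⟩)))).mul_right _
  have hp'le : ∀ f, ∀ e ∈ (p' f).support, e ≼[o] f.1 := by
    intro f e he
    by_contra h
    rw [mem_support_iff] at he
    exact he (by simp [p', hhigh, h])
  have hp'c : ∀ f : F, IsUnit ((p' f).coeff f.1) := by
    intro f
    have h1 : (p' f).coeff f.1 = (p f).coeff f.1 := by simp [p', hhigh]
    rw [h1]
    refine of_not_not fun hnu => ?_
    have h2 := (o.coeff_degree_ne_zero_iff (f := res (p f))).mpr (hp0 f)
    rw [hpdeg f, MvPolynomial.coeff_map] at h2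
    exact h2 ((residue_eq_zero_iff _).mpr ((mem_maximalIdeal _).mpr hnu))
  have hp'deg : ∀ f, o.degree (p' f) = f.1 := fun f =>
    o.toSyn.injective (le_antisymm (o.degree_le_iff.mpr (hp'le f))
      (o.le_degree (mem_support_iff.mpr (hp'c f).ne_zero)))
  have hp'unit : ∀ f, IsUnit (o.leadingCoeff (p' f)) := fun f => by
    rw [MonomialOrder.leadingCoeff, hp'deg]; exact hp'c f
  have step : ∀ d, ∀ x ∈ N, x.IsHomogeneous d → ∃ a : F → B, ∃ x' ∈ N, x'.IsHomogeneous d ∧
      (∀ f, (a f).IsHomogeneous (d - dg f)) ∧ x - ∑ f, a f * g f = algebraMap R B s * x' := by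
    intro d x hx hxd
    obtain ⟨j, hj⟩ := exists_dvd_pow htu hs0
    obtain ⟨P₀, hP₀⟩ := dense_ext D x j
    have hx0 : algebraMap R B s ∣ x - ι P₀ :=
      dvd_trans (by rw [← map_pow]; exact map_dvd _ hj) hP₀
    obtain ⟨q, r, hqr, -, hr⟩ := o.div hp'unit P₀
    rw [Finsupp.linearCombination_apply, Finsupp.sum_fintype q (fun i a => a • p' i) (fun i => zero_smul _ (p' i))] at hqr
    have hxr : algebraMap R B s ∣ x - ∑ f, ι (q f) * g f - ι r := by
      have heq : x - ∑ f, ι (q f) * g f - ι r = (x - ι P₀) - ∑ f, ι (q f) * (g f - ι (p' f)) := by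
        rw [hqr]
        simp only [smul_eq_mul, map_add, map_sum, map_mul, mul_sub, Finset.sum_sub_distrib]
        ring
      rw [heq]
      exact dvd_sub hx0 (Finset.dvd_sum fun f _ => (hgs f).mul_left _)
    have hr0 : ∀ e ∈ r.support, s ∣ r.coeff e := by
      by_contra! hne
      obtain ⟨e₀, he₀, hns⟩ := hne
      obtain ⟨c, hc, hcall⟩ := exists_dvd_all (r.support.image r.coeff)
        ⟨_, Finset.mem_image_of_mem _ he₀⟩
      obtain ⟨e₁, he₁, rfl⟩ := Finset.mem_image.mp hc
      have hcs : ¬ s ∣ r.coeff e₁ := fun h => hns (h.trans (hcall _ (Finset.mem_image_of_mem _ he₀)))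
      obtain ⟨u, hu⟩ := (ValuationRing.dvd_total s (r.coeff e₁)).resolve_left hcs
      have hum : u ∈ maximalIdeal R := (mem_maximalIdeal _).mpr fun huu => hcs (by
        rw [hu]; exact (IsUnit.mul_right_dvd huu).mpr dvd_rfl)
      have hc0 : r.coeff e₁ ≠ 0 := mem_support_iff.mp he₁
      have hdv : C (r.coeff e₁) ∣ r := by
        rw [C_dvd_iff_dvd_coeff]
        intro e
        by_cases he : e ∈ r.support
        · exact hcall _ (Finset.mem_image_of_mem _ he)
        · rw [notMem_support_iff.mp he]; exact dvd_zero _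
      obtain ⟨r', hr'⟩ := hdv
      obtain ⟨b, hb⟩ := hxr
      have hy : ι r' + algebraMap R B u * b ∈ N := by
        refine hsat' (r.coeff e₁) _ hc0 ?_
        have : algebraMap R B (r.coeff e₁) * (ι r' + algebraMap R B u * b) = x - ∑ f, ι (q f) * g f := by
          have h1 : ι r = algebraMap R B (r.coeff e₁) * ι r' := by
            conv_lhs => rw [hr']
            rw [map_mul, ← MvPolynomial.algebraMap_eq, AlgHom.commutes]
          rw [mul_add, ← mul_assoc, ← map_mul, ← hu]
          linear_combination -hb - h1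
        rw [this]
        exact sub_mem hx (sum_mem fun f _ => N.mul_mem_left _ (hgN f))
      have hcoef1 : r'.coeff e₁ = 1 := by
        have := congrArg (fun p => p.coeff e₁) hr'
        simp only [coeff_C_mul] at this
        exact (mul_right_eq_self₀.mp this.symm).resolve_right hc0
      let wdeg : (Fin (n + m) →₀ ℕ) → ℕ := fun e => ∑ i : Fin m, e (Fin.natAdd n i)
      let d₀ := wdeg e₁
      let r'' := ∑ e ∈ r'.support.filter (fun e => wdeg e = d₀), monomial e (r'.coeff e)
      have hmono : ∀ e (v : R), (ι (monomial e v)).IsHomogeneous (wdeg e) := by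
        intro e v
        rw [show ι (monomial e v) = algebraMap R B v *
          ∏ i, (Fin.append (fun i => C (D.ι (X i))) X : Fin (n + m) → B) i ^ e i by
            simp only [ι, Dense.ext, aeval_monomial, Finsupp.prod_fintype _ _ (fun i => pow_zero _)],
          Fin.prod_univ_add]
        simp only [Fin.append_left, Fin.append_right, IsScalarTower.algebraMap_apply R P B,
          MvPolynomial.algebraMap_eq, ← map_pow, ← map_prod, ← mul_assoc, ← map_mul]
        refine IsHomogeneous.C_mul ?_ _
        exact IsHomogeneous.prod _ _ _ fun i _ => by simpa using (isHomogeneous_X P i).pow (e (Fin.natAdd n i))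
      have hcomp : homogeneousComponent d₀ (ι r') = ι r'' := by
        conv_lhs => rw [r'.as_sum, map_sum, map_sum]
        rw [map_sum, Finset.sum_filter]
        refine Finset.sum_congr rfl fun e _ => ?_
        rw [homogeneousComponent_of_mem ((mem_homogeneousSubmodule _ _).mpr (hmono e _))]
        simp only [eq_comm (a := wdeg e)]
      have hne0 : res r'' ≠ 0 := fun h => by
        have h2 := congrArg (fun p => p.coeff e₁) h
        simp [res, r'', coeff_sum, coeff_monomial, d₀, hcoef1] at h2
      have hE : o.degree (res r'') ∈ E := by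
        refine ⟨_, hN _ hy d₀, d₀, homogeneousComponent_isHomogeneous _ _, r'', ?_, hne0, rfl⟩
        rw [map_add, component_algebraMap_mul, hcomp, add_sub_cancel_left]
        exact Ideal.mul_mem_right _ _ (Ideal.mem_map_of_mem _ hum)
      obtain ⟨f, hf, hfle⟩ := hF _ hE
      have hsupp : o.degree (res r'') ∈ r.support := by
        have h := o.degree_mem_support hne0
        rw [mem_support_iff] at h ⊢
        intro h0
        refine h ?_
        have h3 := congrArg (fun p => p.coeff (o.degree (res r''))) hr'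
        simp only [coeff_C_mul, h0] at h3
        have h4 : r'.coeff (o.degree (res r'')) = 0 := (mul_eq_zero.mp h3.symm).resolve_left hc0
        show (MvPolynomial.map (residue R) r'').coeff _ = 0
        rw [MvPolynomial.coeff_map, show r''.coeff (o.degree (res r'')) = 0 from ?_, map_zero]
        rw [coeff_sum]
        refine Finset.sum_eq_zero fun e _ => ?_
        rw [coeff_monomial]
        split_ifs with he
        · rw [he]; exact h4
        · rfl
      exact hr _ hsupp ⟨f, hf⟩ ((hp'deg ⟨f, hf⟩).symm ▸ hfle)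
    obtain ⟨b, hb⟩ : algebraMap R B s ∣ x - ∑ f, ι (q f) * g f := by
      have h1 : algebraMap R B s ∣ ι r := by
        rw [r.as_sum, map_sum]
        refine Finset.dvd_sum fun e he => ?_
        rw [← mul_one (r.coeff e), ← smul_eq_mul, ← smul_monomial, map_smul, Algebra.smul_def]
        exact (map_dvd _ (hr0 e he)).mul_right _
      simpa using dvd_add hxr h1
    refine ⟨fun f => if dg f ≤ d then homogeneousComponent (d - dg f) (ι (q f)) else 0,
      homogeneousComponent d b, hN b (hsat' s b hs0 (hb ▸ sub_mem hx (sum_mem fun f _ => N.mul_mem_left _ (hgN f)))) d,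
      homogeneousComponent_isHomogeneous _ _, fun f => ?_, ?_⟩
    · dsimp only
      split_ifs
      · exact homogeneousComponent_isHomogeneous _ _
      · exact isHomogeneous_zero _ _ _
    · have h2 := congrArg (homogeneousComponent d) hb
      rw [map_sub, homogeneousComponent_of_mem ((mem_homogeneousSubmodule _ _).mpr hxd), if_pos rfl,
        component_algebraMap_mul, map_sum] at h2
      rw [← h2]
      congr 1
      refine Finset.sum_congr rfl fun f _ => ?_
      rw [component_mul (hgd f), ite_mul, zero_mul]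
  let G : Ideal B := Ideal.span (Set.range g)
  have hGN : G ≤ N := Ideal.span_le.mpr (by rintro _ ⟨f, rfl⟩; exact hgN f)
  refine ⟨Finset.univ.image g, le_antisymm (by rw [Finset.coe_image, Finset.coe_univ, Set.image_univ]; exact hGN) ?_⟩
  rw [Finset.coe_image, Finset.coe_univ, Set.image_univ]
  have hhom : ∀ d, ∀ x ∈ N, x.IsHomogeneous d → x ∈ G := by
    intro d x hx hxd
    choose a x' hx'N hx'd had heq using fun (y : {y : B // y ∈ N ∧ y.IsHomogeneous d}) => step d y.1 y.2.1 y.2.2
    let it : ℕ → {y : B // y ∈ N ∧ y.IsHomogeneous d} :=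
      Nat.rec ⟨x, hx, hxd⟩ fun _ y => ⟨x' y, hx'N y, hx'd y⟩
    let S : F → ℕ → B := fun f k => ∑ i ∈ Finset.range k, algebraMap R B s ^ i * a (it i) f
    have hS : ∀ k, x - ∑ f, S f k * g f = algebraMap R B s ^ k * (it k).1 := by
      intro k
      induction k with
      | zero => simp [S, it]
      | succ k ih =>
        have h1 := heq (it k)
        have h2 : ∑ f, S f (k + 1) * g f = ∑ f, S f k * g f + algebraMap R B s ^ k * ∑ f, a (it k) f * g f := by
          simp only [S, Finset.sum_range_succ, add_mul, Finset.sum_add_distrib, Finset.mul_sum, mul_assoc]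
        rw [h2, show (it (k + 1)).1 = x' (it k) from rfl, pow_succ, mul_assoc, ← h1, mul_sub, ← ih]
        ring
    have hSd : ∀ f k, (S f k).IsHomogeneous (d - dg f) := fun f k =>
      IsHomogeneous.sum _ _ _ fun i _ => by
        rw [IsScalarTower.algebraMap_apply R P B, MvPolynomial.algebraMap_eq, ← map_pow]
        exact (had (it i) f).C_mul _
    obtain ⟨L, hL⟩ : ∃ L, t ∣ s ^ L := by
      obtain ⟨j, u, hu⟩ := exists_dvd_pow ((mem_maximalIdeal _).mp hsm) ht
      exact ⟨j, u, hu⟩
    have hAex : ∀ f, ∃ A : B, ∀ j, algebraMap R B t ^ j ∣ A - S f (j * L) := fun f =>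
      exists_series D (d - dg f) (fun j => S f (j * L)) (fun j => hSd f _) fun j => by
        simp only [S]
        rw [← Finset.sum_range_add_sum_Ico _ (show j * L ≤ (j + 1) * L by rw [add_mul]; omega), add_sub_cancel_left]
        refine Finset.dvd_sum fun i hi => Dvd.dvd.mul_right ?_ _
        rw [← map_pow, ← map_pow]
        exact map_dvd _ ((pow_dvd_pow_of_dvd hL j).trans (by
          rw [← pow_mul, mul_comm L j]; exact pow_dvd_pow s (Finset.mem_Ico.mp hi).1))
    choose A hA using hAex
    have hconv : ∀ j, algebraMap R B t ^ j ∣ x - ∑ f, A f * g f := by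
      intro j
      have h1 : x - ∑ f, A f * g f = (x - ∑ f, S f (j * L) * g f) - ∑ f, (A f - S f (j * L)) * g f := by
        simp only [sub_mul, Finset.sum_sub_distrib]; ring
      rw [h1, hS]
      refine dvd_sub (Dvd.dvd.mul_right ?_ _) (Finset.dvd_sum fun f _ => (hA f j).mul_right _)
      rw [← map_pow, ← map_pow]
      exact map_dvd _ ((pow_dvd_pow_of_dvd hL j).trans (by rw [← pow_mul, mul_comm]))
    have hzero : x - ∑ f, A f * g f = 0 := by
      ext e
      rw [coeff_zero]
      refine D.complete.haus _ fun j => ?_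
      rw [SModEq.zero, smul_eq_mul, Ideal.mul_top, Ideal.span_singleton_pow, Ideal.mem_span_singleton]
      have := hconv j
      rw [IsScalarTower.algebraMap_apply R P B, MvPolynomial.algebraMap_eq, ← map_pow, C_dvd_iff_dvd_coeff] at this
      exact this e
    rw [sub_eq_zero.mp hzero]
    exact sum_mem fun f _ => Ideal.mul_mem_left _ _ (Ideal.subset_span ⟨f, rfl⟩)
  intro x hx
  rw [← sum_homogeneousComponent x]
  exact sum_mem fun i _ => hhom i _ (hN x hx i) (homogeneousComponent_isHomogeneous _ _)

end Groth.Agent.Adic.Base.Saturated
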