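import Groth.Agent.Adic.Base.Finite
import Groth.Agent.Adic.Base.CompletionMap
import Mathlib.RingTheory.AdicCompletion.Functoriality
import Mathlib.RingTheory.Finiteness.FinitePresentationLocal
import Mathlib.RingTheory.Finiteness.FiniteTypeLocal
import Mathlib.RingTheory.Localization.Ideal
import Mathlib.RingTheory.RingHom.FinitePresentation
import Mathlib.RingTheory.RingHom.FaithfullyFlat

/-! Truncations: criteria for being topologically of finite type or presentation. -/

namespace Groth.Agent.Adic.Base.Trunc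

universe u

section

variable {C : Type u} [CommRing C] {J : Ideal C}

theorem mem_pow_iff (hJ : J.FG) (n : ℕ) (x : AdicCompletion J C) :
    x ∈ (J.map (algebraMap C (AdicCompletion J C))) ^ n ↔ AdicCompletion.evalₐ J n x = 0 := by
  have h1 : x ∈ (J.map (algebraMap C (AdicCompletion J C))) ^ n ↔
      x ∈ (J ^ n • ⊤ : Submodule C (AdicCompletion J C)) := by
    rw [← Ideal.map_pow, Ideal.smul_top_eq_map]; rfl
  rw [h1, AdicCompletion.pow_smul_top_eq_ker_eval hJ, LinearMap.mem_ker]
  have h : (J ^ n • ⊤ : Ideal C) = J ^ n := by ext y; simp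
  rw [← AdicCompletion.factor_eval_eq_evalₐ J x h.le]
  refine ⟨fun hx => by rw [hx, map_zero], fun hx => ?_⟩
  obtain ⟨y, hy⟩ := Submodule.Quotient.mk_surjective _ (AdicCompletion.eval J C n x)
  rw [← hy] at hx ⊢
  rw [Submodule.Quotient.mk_eq_zero]
  exact h.ge (Ideal.Quotient.eq_zero_iff_mem.mp hx)

theorem exists_sub_mem (hJ : J.FG) (n : ℕ) (x : AdicCompletion J C) :
    ∃ c, x - algebraMap C _ c ∈ (J.map (algebraMap C (AdicCompletion J C))) ^ n := by
  obtain ⟨c, hc⟩ := Ideal.Quotient.mk_surjective (AdicCompletion.evalₐ J n x)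
  refine ⟨c, (mem_pow_iff hJ n _).mpr ?_⟩
  rw [map_sub, AlgHom.commutes, ← hc]
  exact sub_self _

theorem algebraMap_mem_pow_iff (hJ : J.FG) (n : ℕ) (c : C) :
    algebraMap C _ c ∈ (J.map (algebraMap C (AdicCompletion J C))) ^ n ↔ c ∈ J ^ n := by
  rw [mem_pow_iff hJ, AlgHom.commutes]
  exact Ideal.Quotient.eq_zero_iff_mem

end

variable {R : Type u} [CommRing R] {I : Ideal R}

theorem completion_map {C : Type u} [CommRing C] [Algebra R C] :
    (I.map (algebraMap R C)).map (algebraMap C (AdicCompletion (I.map (algebraMap R C)) C)) =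
      I.map (algebraMap R (AdicCompletion (I.map (algebraMap R C)) C)) :=
  (Ideal.map_map _ _).trans (congrArg (fun f => Ideal.map f I) (IsScalarTower.algebraMap_eq R C _).symm)

theorem isAdicComplete_completion {C : Type u} [CommRing C] [Algebra R C] (hI : I.FG) :
    IsAdicComplete (I.map (algebraMap R (AdicCompletion (I.map (algebraMap R C)) C)))
      (AdicCompletion (I.map (algebraMap R C)) C) := by
  have h := AdicCompletion.isAdicComplete (I := I.map (algebraMap R C)) (M := C) (Ideal.FG.map hI _)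
  rw [← completion_map]
  exact { toIsHausdorff := IsHausdorff.map_algebraMap_iff.mpr h.toIsHausdorff
          toIsPrecomplete := IsPrecomplete.map_algebraMap_iff.mpr h.toIsPrecomplete }

theorem rPow_map (n : ℕ) : I.map (MvPolynomial.C : R →+* MvPolynomial (Fin n) R) =
    I.map (algebraMap R (MvPolynomial (Fin n) R)) := rfl

/-- Truncation of a completion. -/
noncomputable def truncEquiv {C : Type u} [CommRing C] [Algebra R C] (hI : I.FG) (n : ℕ) :
    (C ⧸ (I.map (algebraMap R C)) ^ n) ≃ₐ[R]
      AdicCompletion (I.map (algebraMap R C)) C ⧸ (I.map (algebraMap R (AdicCompletion (I.map (algebraMap R C)) C))) ^ n :=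
  AlgEquiv.ofBijective
    (Ideal.Quotient.liftₐ _ ((Ideal.Quotient.mkₐ R _).comp (IsScalarTower.toAlgHom R C _)) fun c hc => by
      show Ideal.Quotient.mk _ (algebraMap C _ c) = 0
      rw [Ideal.Quotient.eq_zero_iff_mem, ← completion_map]
      exact (algebraMap_mem_pow_iff (Ideal.FG.map hI _) n c).mpr hc)
    ⟨by
      rw [injective_iff_map_eq_zero]
      intro x hx
      obtain ⟨c, rfl⟩ := Ideal.Quotient.mk_surjective x
      change Ideal.Quotient.mk _ (algebraMap C _ c) = 0 at hx
      rw [Ideal.Quotient.eq_zero_iff_mem, ← completion_map] at hx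
      exact Ideal.Quotient.eq_zero_iff_mem.mpr ((algebraMap_mem_pow_iff (Ideal.FG.map hI _) n c).mp hx),
    fun y => by
      obtain ⟨y, rfl⟩ := Ideal.Quotient.mk_surjective y
      obtain ⟨c, hc⟩ := exists_sub_mem (Ideal.FG.map hI _) n y
      rw [completion_map] at hc
      exact ⟨Ideal.Quotient.mk _ c, (Ideal.Quotient.eq.mpr hc).symm⟩⟩

theorem topFiniteType_iff (hR : AdicRing.IsBase R I) (A : Type u) [CommRing A] [Algebra R A]
    [IsAdicComplete (I.map (algebraMap R A)) A] :
    AdicRing.TopFiniteType R I A ↔ Algebra.FiniteType R (A ⧸ I.map (algebraMap R A)) := by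
  constructor
  · rintro ⟨m, φ, hφ⟩
    refine Algebra.FiniteType.of_surjective ((Ideal.Quotient.mkₐ R _).comp
      (φ.comp (IsScalarTower.toAlgHom R (MvPolynomial (Fin m) R) (AdicRing.RPow R I m)))) fun y => ?_
    obtain ⟨y, rfl⟩ := Ideal.Quotient.mk_surjective y
    obtain ⟨y, rfl⟩ := hφ y
    obtain ⟨c, hc⟩ := exists_sub_mem (Ideal.FG.map (Classes.fg_of_isBase hR) _) 1 y
    refine ⟨c, ((Ideal.Quotient.eq.mpr ?_).symm : _)⟩
    rw [pow_one, Classes.map_rPow] at hc
    have h := Ideal.mem_map_of_mem φ.toRingHom hc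
    rw [Ideal.map_map, show φ.toRingHom.comp (algebraMap R _) = algebraMap R A from φ.comp_algebraMap,
      map_sub] at h
    exact h
  · intro h
    obtain ⟨m, f, hf⟩ := Algebra.FiniteType.iff_quotient_mvPolynomial''.mp h
    choose v hv using fun i : Fin m => Ideal.Quotient.mk_surjective (f (MvPolynomial.X i))
    let g : MvPolynomial (Fin m) R →ₐ[R] A := MvPolynomial.aeval v
    have hg : I.map (MvPolynomial.C : R →+* MvPolynomial (Fin m) R) ≤ (I.map (algebraMap R A)).comap g.toRingHom :=
      Ideal.map_le_iff_le_comap.mpr fun r hr => by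
        rw [Ideal.mem_comap, Ideal.mem_comap]
        exact (show g.toRingHom (MvPolynomial.C r) = algebraMap R A r from MvPolynomial.aeval_C _ r) ▸
          Ideal.mem_map_of_mem _ hr
    let e := CompletionMap.extend _ g.toRingHom hg
    have he : ∀ p, e (algebraMap (MvPolynomial (Fin m) R) _ p) = g p := CompletionMap.extend_of _ g.toRingHom hg
    have hec : ∀ r : R, e (algebraMap R _ r) = algebraMap R A r := fun r => by
      rw [IsScalarTower.algebraMap_apply R (MvPolynomial (Fin m) R) (AdicRing.RPow R I m)]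
      exact (he _).trans (g.commutes r)
    have := Classes.isAdicComplete_rPow hR m
    have hmap : (I.map (algebraMap R (AdicRing.RPow R I m))).map e = I.map (algebraMap R A) := by
      rw [Ideal.map_map]; exact congrArg (fun f => Ideal.map f I) (RingHom.ext hec)
    have : IsHausdorff ((I.map (algebraMap R (AdicRing.RPow R I m))).map e) A := by
      rw [hmap]; infer_instance
    refine ⟨m, { e with commutes' := hec },
      surjective_of_mk_map_comp_surjective e (I := I.map (algebraMap R (AdicRing.RPow R I m))) fun y => ?_⟩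
    obtain ⟨y, rfl⟩ := Ideal.Quotient.mk_surjective y
    obtain ⟨p, hp⟩ := hf (Ideal.Quotient.mk _ y)
    refine ⟨algebraMap (MvPolynomial (Fin m) R) _ p, Ideal.Quotient.eq.mpr ?_⟩
    rw [hmap, he, ← Ideal.Quotient.eq, ← hp]
    exact AlgHom.congr_fun (show (Ideal.Quotient.mkₐ R _).comp g = f from
      MvPolynomial.algHom_ext fun i => by simp [g, hv]) p

theorem topFinitePresentation_iff (hR : AdicRing.IsBase R I) (A : Type u) [CommRing A] [Algebra R A]
    [IsAdicComplete (I.map (algebraMap R A)) A] :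
    AdicRing.TopFinitePresentation R I A ↔
      ∀ n : ℕ, Algebra.FinitePresentation R (A ⧸ (I.map (algebraMap R A)) ^ (n + 1)) := by
  have hI := Classes.fg_of_isBase hR
  have hfp : ∀ m n : ℕ, Algebra.FinitePresentation R
      (AdicRing.RPow R I m ⧸ (I.map (algebraMap R (AdicRing.RPow R I m))) ^ n) := fun m n =>
    have : Algebra.FinitePresentation R (MvPolynomial (Fin m) R ⧸ (I.map (algebraMap R (MvPolynomial (Fin m) R))) ^ n) :=
      Algebra.FinitePresentation.quotient (Ideal.FG.pow (hI.map _))
    Algebra.FinitePresentation.equiv (truncEquiv (C := MvPolynomial (Fin m) R) hI n)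
  have hq : ∀ {m : ℕ} (φ : AdicRing.RPow R I m →ₐ[R] A) (hφ : Function.Surjective φ) (n : ℕ),
      ∃ q : (AdicRing.RPow R I m ⧸ (I.map (algebraMap R (AdicRing.RPow R I m))) ^ n) →ₐ[R]
          A ⧸ (I.map (algebraMap R A)) ^ n, Function.Surjective q ∧
        RingHom.ker q.toRingHom = (RingHom.ker φ.toRingHom).map (Ideal.Quotient.mk _) := by
    intro m φ hφ n
    have hmap : ((I.map (algebraMap R (AdicRing.RPow R I m))) ^ n).map φ.toRingHom = (I.map (algebraMap R A)) ^ n := by
      rw [Ideal.map_pow, Ideal.map_map]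
      exact congrArg (fun f => (Ideal.map f I) ^ n) φ.comp_algebraMap
    refine ⟨Ideal.quotientMapₐ _ φ (Ideal.map_le_iff_le_comap.mp hmap.le),
      Ideal.quotientMap_surjective (H := Ideal.map_le_iff_le_comap.mp hmap.le) hφ, ?_⟩
    refine le_antisymm (fun x hx => ?_) (Ideal.map_le_iff_le_comap.mpr fun x hx => ?_)
    · obtain ⟨x, rfl⟩ := Ideal.Quotient.mk_surjective x
      change Ideal.Quotient.mk _ (φ x) = 0 at hx
      rw [Ideal.Quotient.eq_zero_iff_mem, ← hmap, Ideal.mem_map_iff_of_surjective φ.toRingHom hφ] at hx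
      obtain ⟨z, hz, hzx⟩ := hx
      rw [show Ideal.Quotient.mk _ x = Ideal.Quotient.mk _ (x - z) by
        rw [map_sub, Ideal.Quotient.eq_zero_iff_mem.mpr hz, sub_zero]]
      exact Ideal.mem_map_of_mem _ (by rw [RingHom.mem_ker, map_sub, hzx]; exact sub_self _)
    · rw [Ideal.mem_comap, RingHom.mem_ker]
      show Ideal.Quotient.mk _ (φ x) = 0
      rw [show φ x = 0 from hx, map_zero]
  constructor
  · rintro ⟨m, φ, hφ, hker⟩ n
    obtain ⟨q, hq1, hq2⟩ := hq φ hφ (n + 1)
    have := hfp m (n + 1)
    exact Algebra.FinitePresentation.of_surjective hq1 (hq2 ▸ hker.map _)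
  · intro h
    have hft : AdicRing.TopFiniteType R I A := by
      refine (topFiniteType_iff hR A).mpr ?_
      have := h 0
      have h1 : (I.map (algebraMap R A)) ^ (0 + 1) = I.map (algebraMap R A) := by simp
      exact (inferInstance : Algebra.FiniteType R (A ⧸ (I.map (algebraMap R A)) ^ (0 + 1))).equiv
        (Ideal.quotientEquivAlgOfEq R h1)
    obtain ⟨m, φ, hφ⟩ := hft
    refine ⟨m, φ, hφ, ?_⟩
    classical
    set L := I.map (algebraMap R (AdicRing.RPow R I m))
    set a := RingHom.ker φ.toRingHom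
    have hrt : AdicRing.TopFiniteType R I (AdicRing.RPow R I m) := ⟨m, AlgHom.id R _, fun x => ⟨x, rfl⟩⟩
    obtain ⟨a₀, ha₀, hfg₀, c, hc⟩ := Tame.almost_module (Classes.isTame_self hR hrt) a
    obtain ⟨c', hc'⟩ := Tame.artinRees (Classes.isTame_self hR hrt) (M := AdicRing.RPow R I m) a
    have hsmall : a ⊓ L ^ (c + c' + 1) ≤ a₀ := by
      intro x ⟨hxa, hxL⟩
      have := hc' c ⟨(show x ∈ L ^ (c + c') • (⊤ : Submodule _ _) by
        rw [smul_eq_mul, Ideal.mul_top]; exact Ideal.pow_le_pow_right (Nat.le_succ _) hxL), hxa⟩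
      exact hc this
    obtain ⟨q, hq1, hq2⟩ := hq φ hφ (c + c' + 1)
    have := hfp m (c + c' + 1)
    have := h (c + c')
    have hk := Algebra.FinitePresentation.ker_fG_of_surjective q hq1
    rw [hq2] at hk
    obtain ⟨T, hT⟩ := hk
    have hlift : ∀ y : T, ∃ x ∈ a, Ideal.Quotient.mk (L ^ (c + c' + 1)) x = y := fun y =>
      (Ideal.mem_map_iff_of_surjective _ Ideal.Quotient.mk_surjective).mp (hT ▸ Submodule.subset_span y.2)
    choose x hx hxy using hlift
    suffices a = Ideal.span (Set.range x) ⊔ a₀ by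
      rw [this]; exact (Submodule.fg_span (Set.finite_range x)).sup hfg₀
    refine le_antisymm (fun z hz => ?_) (sup_le (Ideal.span_le.mpr (by rintro _ ⟨y, rfl⟩; exact hx y)) ha₀)
    have h1 : Ideal.Quotient.mk (L ^ (c + c' + 1)) z ∈ (Ideal.span (Set.range x)).map (Ideal.Quotient.mk _) := by
      have hz' : Ideal.Quotient.mk (L ^ (c + c' + 1)) z ∈ a.map (Ideal.Quotient.mk (L ^ (c + c' + 1))) :=
        Ideal.mem_map_of_mem _ hz
      refine (hT.symm.le.trans ?_) hz'
      refine Submodule.span_le.mpr fun y hy => ?_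
      rw [show y = Ideal.Quotient.mk (L ^ (c + c' + 1)) (x ⟨y, hy⟩) from (hxy ⟨y, hy⟩).symm]
      exact Ideal.mem_map_of_mem _ (Ideal.subset_span ⟨_, rfl⟩)
    obtain ⟨w, hw, hwz⟩ := (Ideal.mem_map_iff_of_surjective _ Ideal.Quotient.mk_surjective).mp h1
    rw [show z = w + (z - w) from (add_sub_cancel w z).symm]
    refine Submodule.add_mem_sup hw (hsmall ⟨sub_mem hz (Ideal.span_le.mpr (by rintro _ ⟨y, rfl⟩; exact hx y) hw), ?_⟩)
    exact Ideal.Quotient.eq.mp hwz.symm

theorem quotientMap_finitePresentation_iff (hI : I.FG) (A : Type u) [CommRing A] [Algebra R A] (n : ℕ) :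
    (Ideal.quotientMap ((I ^ (n + 1)).map (algebraMap R A)) (algebraMap R A) Ideal.le_comap_map).FinitePresentation ↔
      Algebra.FinitePresentation R (A ⧸ (I.map (algebraMap R A)) ^ (n + 1)) := by
  rw [← Ideal.map_pow, ← RingHom.finitePresentation_algebraMap]
  have hmk : (Ideal.Quotient.mk (I ^ (n + 1))).FinitePresentation :=
    RingHom.FinitePresentation.of_surjective _ Ideal.Quotient.mk_surjective
      (by rw [Ideal.mk_ker]; exact Ideal.FG.pow hI)
  have hcomp : (Ideal.quotientMap ((I ^ (n + 1)).map (algebraMap R A)) (algebraMap R A) Ideal.le_comap_map).comp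
      (Ideal.Quotient.mk (I ^ (n + 1))) = algebraMap R (A ⧸ (I ^ (n + 1)).map (algebraMap R A)) :=
    RingHom.ext fun r => rfl
  exact ⟨fun h => hcomp ▸ h.comp hmk, fun h => RingHom.FinitePresentation.of_comp_finiteType _ (hcomp ▸ h)
    (RingHom.FiniteType.of_surjective _ Ideal.Quotient.mk_surjective)⟩

section Local

variable {A : Type u} [CommRing A] [Algebra R A]

/-- The truncation of a complete localization is a localization of the truncation. -/
theorem exists_isLocalization (hI : I.FG) (f : A) (n : ℕ) :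
    ∃ e : (Localization.Away (Ideal.Quotient.mk ((I.map (algebraMap R A)) ^ n) f)) ≃ₐ[R]
      AdicRing.CLoc I f ⧸ (I.map (algebraMap R (AdicRing.CLoc I f))) ^ n, True := by
  let L := Localization.Away f
  have heq : ((I.map (algebraMap R A)) ^ n).map (algebraMap A L) = (I.map (algebraMap R L)) ^ n := by
    rw [Ideal.map_pow, Ideal.map_map, ← IsScalarTower.algebraMap_eq]
  have : IsLocalization.Away (Ideal.Quotient.mk ((I.map (algebraMap R A)) ^ n) f)
      (L ⧸ ((I.map (algebraMap R A)) ^ n).map (algebraMap A L)) := by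
    rw [IsLocalization.Away, ← Submonoid.map_powers]
    exact (inferInstance : IsLocalization
      (Algebra.algebraMapSubmonoid (A ⧸ (I.map (algebraMap R A)) ^ n) (Submonoid.powers f))
      (L ⧸ ((I.map (algebraMap R A)) ^ n).map (algebraMap A L)))
  have : IsScalarTower R (A ⧸ (I.map (algebraMap R A)) ^ n)
      (L ⧸ ((I.map (algebraMap R A)) ^ n).map (algebraMap A L)) :=
    IsScalarTower.of_algebraMap_eq fun r =>
      congrArg (Ideal.Quotient.mk _) (IsScalarTower.algebraMap_apply R A L r)
  exact ⟨((IsLocalization.algEquiv (Submonoid.powers (Ideal.Quotient.mk ((I.map (algebraMap R A)) ^ n) f))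
    (Localization.Away (Ideal.Quotient.mk ((I.map (algebraMap R A)) ^ n) f))
    (L ⧸ ((I.map (algebraMap R A)) ^ n).map (algebraMap A L))).restrictScalars R).trans
    ((Ideal.quotientEquivAlgOfEq R heq).trans (truncEquiv hI n)), trivial⟩

theorem isAdicComplete_cLoc (hI : I.FG) (f : A) :
    IsAdicComplete (I.map (algebraMap R (AdicRing.CLoc I f))) (AdicRing.CLoc I f) :=
  isAdicComplete_completion hI

theorem span_mk_eq_top {ι : Type*} (f : ι → A) (hf : Ideal.span (Set.range f) = ⊤) (J : Ideal A) :
    Ideal.span (Set.range fun i => Ideal.Quotient.mk J (f i)) = ⊤ := by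
  rw [Set.range_comp', ← Ideal.map_span, hf, Ideal.map_top]

theorem topFiniteType_iff_forall_cLoc (hR : AdicRing.IsBase R I) [IsAdicComplete (I.map (algebraMap R A)) A]
    {ι : Type*} (f : ι → A) (hf : Ideal.span (Set.range f) = ⊤) :
    AdicRing.TopFiniteType R I A ↔ ∀ i, AdicRing.TopFiniteType R I (AdicRing.CLoc I (f i)) := by
  have hI := Classes.fg_of_isBase hR
  have h1 : ∀ (B : Type u) [CommRing B] [Algebra R B],
      Algebra.FiniteType R (B ⧸ I.map (algebraMap R B)) ↔ Algebra.FiniteType R (B ⧸ (I.map (algebraMap R B)) ^ 1) :=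
    fun B _ _ => ⟨fun h => h.equiv (Ideal.quotientEquivAlgOfEq R (pow_one _).symm),
      fun h => h.equiv (Ideal.quotientEquivAlgOfEq R (pow_one _))⟩
  rw [topFiniteType_iff hR A, h1]
  refine ⟨fun h i => ?_, fun h => ?_⟩
  · have := isAdicComplete_cLoc hI (f i)
    rw [topFiniteType_iff hR, h1]
    obtain ⟨e, -⟩ := exists_isLocalization hI (f i) 1
    have : Algebra.FiniteType (A ⧸ (I.map (algebraMap R A)) ^ 1)
        (Localization.Away (Ideal.Quotient.mk ((I.map (algebraMap R A)) ^ 1) (f i))) :=
      IsLocalization.finiteType_of_monoid_fg (Submonoid.powers (Ideal.Quotient.mk ((I.map (algebraMap R A)) ^ 1) (f i))) _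
    exact (Algebra.FiniteType.trans h this).equiv e
  · refine Algebra.FiniteType.of_span_eq_top_target _ (span_mk_eq_top f hf _) ?_
    rintro _ ⟨i, rfl⟩
    have := isAdicComplete_cLoc hI (f i)
    obtain ⟨e, -⟩ := exists_isLocalization hI (f i) 1
    exact ((h1 _).mp ((topFiniteType_iff hR _).mp (h i))).equiv e.symm

theorem topFinitePresentation_iff_forall_cLoc (hR : AdicRing.IsBase R I) [IsAdicComplete (I.map (algebraMap R A)) A]
    {ι : Type*} (f : ι → A) (hf : Ideal.span (Set.range f) = ⊤) :
    AdicRing.TopFinitePresentation R I A ↔ ∀ i, AdicRing.TopFinitePresentation R I (AdicRing.CLoc I (f i)) := by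
  have hI := Classes.fg_of_isBase hR
  rw [topFinitePresentation_iff hR A]
  refine ⟨fun h i => ?_, fun h n => ?_⟩
  · have := isAdicComplete_cLoc hI (f i)
    rw [topFinitePresentation_iff hR]
    intro n
    obtain ⟨e, -⟩ := exists_isLocalization hI (f i) (n + 1)
    have := h n
    have : Algebra.FinitePresentation (A ⧸ (I.map (algebraMap R A)) ^ (n + 1))
        (Localization.Away (Ideal.Quotient.mk ((I.map (algebraMap R A)) ^ (n + 1)) (f i))) :=
      IsLocalization.Away.finitePresentation (Ideal.Quotient.mk ((I.map (algebraMap R A)) ^ (n + 1)) (f i))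
    have := Algebra.FinitePresentation.trans R (A ⧸ (I.map (algebraMap R A)) ^ (n + 1))
      (Localization.Away (Ideal.Quotient.mk ((I.map (algebraMap R A)) ^ (n + 1)) (f i)))
    exact Algebra.FinitePresentation.equiv e
  · refine Algebra.FinitePresentation.of_span_eq_top_target _ (span_mk_eq_top f hf _) ?_
    rintro _ ⟨i, rfl⟩
    have := isAdicComplete_cLoc hI (f i)
    obtain ⟨e, -⟩ := exists_isLocalization hI (f i) (n + 1)
    have := (topFinitePresentation_iff hR _).mp (h i) n
    exact Algebra.FinitePresentation.equiv e.symm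

theorem admissible_iff_forall_cLoc (hR : AdicRing.IsBase R I) [IsAdicComplete (I.map (algebraMap R A)) A]
    {r : ℕ} (f : Fin r → A) (hf : Ideal.span (Set.range f) = ⊤) :
    AdicRing.Admissible R I A ↔ ∀ i, AdicRing.Admissible R I (AdicRing.CLoc I (f i)) := by
  have hI := Classes.fg_of_isBase hR
  refine ⟨fun h i => ⟨(topFinitePresentation_iff_forall_cLoc hR f hf).mp h.1 i, fun x n hx => ?_⟩, fun h => ?_⟩
  · have := Finite.flat_cLoc hR (A := A) ⟨h.1.choose, h.1.choose_spec.choose, h.1.choose_spec.choose_spec.1⟩ (f i)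
    obtain ⟨s, hs⟩ := Ideal.FG.pow (n := n) hI
    let ℓ : A →ₗ[A] (s → A) := LinearMap.pi fun a => algebraMap R A a.1 • LinearMap.id
    have hℓ : Function.Injective ℓ := by
      rw [injective_iff_map_eq_zero]
      intro y hy
      refine h.2 y n fun a ha => ?_
      rw [← hs] at ha
      induction ha using Submodule.span_induction with
      | mem b hb => rw [Algebra.smul_def]; exact congrFun hy ⟨b, hb⟩
      | zero => exact zero_smul R y
      | add b c _ _ hb hc => rw [add_smul, hb, hc, add_zero]
      | smul b c _ hc => rw [smul_assoc, hc, smul_zero]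
    classical
    have h1 : (TensorProduct.piRight A A (AdicRing.CLoc I (f i)) fun _ : s => A)
        (ℓ.lTensor (AdicRing.CLoc I (f i)) (x ⊗ₜ[A] (1 : A))) = 0 := by
      ext a
      simp only [LinearMap.lTensor_tmul, TensorProduct.piRight_apply, TensorProduct.piRightHom_tmul,
        Pi.zero_apply]
      rw [show ℓ 1 a = algebraMap R A a.1 • (1 : A) from rfl, ← TensorProduct.smul_tmul]
      rw [IsScalarTower.algebraMap_smul, hx a.1 (hs ▸ Submodule.subset_span a.2), TensorProduct.zero_tmul]
    have h2 := Module.Flat.lTensor_preserves_injective_linearMap (M := AdicRing.CLoc I (f i)) ℓ hℓ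
      ((LinearEquiv.map_eq_zero_iff _).mp h1 |>.trans (map_zero _).symm)
    simpa using congrArg (TensorProduct.rid A (AdicRing.CLoc I (f i))) h2
  · have hfp := (topFinitePresentation_iff_forall_cLoc hR f hf).mpr fun i => (h i).1
    refine ⟨hfp, fun x n hx => ?_⟩
    have := Finite.faithfullyFlat_pi_cLoc hR (A := A) ⟨hfp.choose, hfp.choose_spec.choose, hfp.choose_spec.choose_spec.1⟩ f hf
    have hinj : Function.Injective (algebraMap A (∀ i, AdicRing.CLoc I (f i))) :=
      (RingHom.FaithfullyFlat.injective (f := algebraMap A (∀ i, AdicRing.CLoc I (f i)))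
        (RingHom.faithfullyFlat_algebraMap_iff.mpr this))
    refine hinj ?_
    rw [map_zero]
    funext i
    refine (h i).2 _ n fun a ha => ?_
    rw [Pi.algebraMap_apply]
    exact ((map_smul (IsScalarTower.toAlgHom R A (AdicRing.CLoc I (f i))) a x).symm.trans
      (congrArg _ (hx a ha))).trans (map_zero _)

end Local

end Groth.Agent.Adic.Base.Trunc
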